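import Cfsg.Agent.H674.XZ.CycA

/-!
# S4791, part B: if all almost `p`-rational characters of degree prime to `p` lie in the principal block (helper674)

* `exists_coef` : sums of invariant functions with values in `ℂ`;
* `centralizer_le_of_subset` : then `C_G(P) ≤ P` (any Sylow `p`-subgroup `P`).
-/

set_option autoImplicit false

open scoped ComplexConjugate

namespace Cfsg.Agent.H674.XZ

open Cfsg Cfsg.Agent.Characters Cfsg.Agent.Characters.Core Subgroup Cfsg.Agent.Blocks.Local Cfsg.Agent.H145.BR
  Cfsg.Agent.H667.BR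

universe u v

/-- sums of invariant functions: the coefficients do not depend on the function -/
theorem exists_coef {p : ℕ} [hp : Fact p.Prime] {A : Type*} [Group A] [Finite A] (hA : IsPGroup p A) (I : Type*)
    [Fintype I] [MulAction A I] [DecidablePred fun i : I => ∀ a : A, a • i = i] :
    ∃ c : I → ℕ, ∀ f : I → ℂ, (∀ (a : A) (i : I), f (a • i) = f i) →
      ∑ i, f i = ∑ i, (if ∀ a : A, a • i = i then f i else 0) + (p : ℂ) * ∑ i, (c i : ℂ) * f i := by
  classical
  let rp : I → I := fun i => (Quotient.mk (MulAction.orbitRel A I) i).out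
  refine ⟨fun i => if rp i = i ∧ ¬ (∀ a : A, a • i = i) then Nat.card (MulAction.orbit A i) / p else 0, fun f hf => ?_⟩
  rw [← sub_eq_zero, Finset.mul_sum, ← sub_sub, ← Finset.sum_sub_distrib, ← Finset.sum_sub_distrib,
    ← Finset.sum_fiberwise_of_maps_to (s := Finset.univ) (t := Finset.univ)
    (g := fun i => (Quotient.mk (MulAction.orbitRel A I) i)) (fun i _ => Finset.mem_univ _)]
  refine Finset.sum_eq_zero fun q _ => ?_
  set j := q.out with hj
  have hjq : (Quotient.mk (MulAction.orbitRel A I) j) = q := Quotient.out_eq q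
  have hfib : ∀ i ∈ Finset.univ.filter (fun i => (Quotient.mk (MulAction.orbitRel A I) i) = q), ∃ a : A, a • j = i := by
    intro i hi
    rw [Finset.mem_filter] at hi
    have h1 : (Quotient.mk (MulAction.orbitRel A I) i) = Quotient.mk _ j := hi.2.trans hjq.symm
    exact MulAction.orbitRel_apply.1 (Quotient.exact h1)
  have hcard : (Finset.univ.filter (fun i => (Quotient.mk (MulAction.orbitRel A I) i) = q)).card =
      Nat.card (MulAction.orbit A j) := by
    rw [Nat.card_eq_fintype_card, ← Set.toFinset_card]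
    congr 1
    ext i
    rw [Set.mem_toFinset]
    constructor
    · intro h
      obtain ⟨a, ha⟩ := hfib i h
      exact ⟨a, ha⟩
    · intro h
      rw [Finset.mem_filter]
      exact ⟨Finset.mem_univ _, (Quotient.sound (MulAction.orbitRel_apply.2 h)).trans hjq⟩
  have hfix : ∀ a : A, (∀ b : A, b • a • j = a • j) ↔ ∀ b : A, b • j = j := by
    intro a
    constructor
    · intro h b
      have h3 := h (a * b * a⁻¹)
      rw [← mul_smul, inv_mul_cancel_right, mul_smul] at h3
      exact (MulAction.injective a) h3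
    · intro h b
      rw [h a, h b]
  by_cases hjf : ∀ b : A, b • j = j
  · refine Finset.sum_eq_zero fun i hi => ?_
    obtain ⟨a, rfl⟩ := hfib i hi
    rw [hjf a, if_pos hjf]
    simp [hjf]
  · have h1 : ∀ i ∈ Finset.univ.filter (fun i => (Quotient.mk (MulAction.orbitRel A I) i) = q),
        (f i - (if ∀ a : A, a • i = i then f i else 0) - (p : ℂ) * (((if rp i = i ∧ ¬ (∀ a : A, a • i = i) then
          Nat.card (MulAction.orbit A i) / p else 0 : ℕ) : ℂ) * f i)) =
        f j - if i = j then (p : ℂ) * ((Nat.card (MulAction.orbit A j) / p : ℕ) : ℂ) * f j else 0 := by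
      intro i hi
      obtain ⟨a, rfl⟩ := hfib i hi
      have hrp : rp (a • j) = j := by
        change (Quotient.mk (MulAction.orbitRel A I) (a • j)).out = j
        rw [(Finset.mem_filter.1 hi).2]
      rw [hf, hrp, if_neg (fun h => hjf ((hfix a).1 h)), sub_zero]
      by_cases h2 : j = a • j
      · rw [← h2, if_pos rfl, if_pos ⟨rfl, hjf⟩, mul_assoc]
      · rw [if_neg (fun h => h2 h.1), if_neg (fun h => h2 h.symm)]
        simp
    rw [Finset.sum_congr rfl h1, Finset.sum_sub_distrib, Finset.sum_const, hcard, Finset.sum_ite_eq']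
    have h2 : j ∈ Finset.univ.filter (fun i => (Quotient.mk (MulAction.orbitRel A I) i) = q) := by
      rw [Finset.mem_filter]
      exact ⟨Finset.mem_univ _, hjq⟩
    rw [if_pos h2]
    have h5 : p ∣ Nat.card (MulAction.orbit A j) := by
      obtain ⟨n, hn⟩ := hA.card_orbit j
      rw [hn]
      rcases Nat.eq_zero_or_pos n with h6 | h6
      · exfalso
        rw [h6, pow_zero] at hn
        apply hjf
        intro a
        have h7 := Nat.card_eq_one_iff_unique.1 hn
        have := h7.1
        exact congrArg Subtype.val (Subsingleton.elim (⟨a • j, MulAction.mem_orbit j a⟩ : MulAction.orbit A j)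
          ⟨j, MulAction.mem_orbit_self j⟩)
      · exact dvd_pow_self p h6.ne'
    rw [← Nat.cast_mul, Nat.mul_div_cancel' h5, nsmul_eq_mul, sub_self]

variable {p : ℕ} [hp : Fact p.Prime] {M : Ideal AlgInt} {G : Type u} [Group G] [Finite G]

/-! ### values at elements whose centralizer contains a Sylow subgroup -/

omit hp in
theorem loc_a (hM : IsPModular p M) {χ : IrrCharacter G} {y : G} (hy : ¬ p ∣ (centralizer ({y} : Set G)).index)
    (h : p ∣ charDegree (χ : G → ℂ)) : MemLocalIdeal M ((χ : G → ℂ) y) := by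
  have hMp := isPrime_of_isPModular hM
  obtain ⟨h1, h2, -⟩ := S0914.degree_spec χ
  set i := (centralizer ({y} : Set G)).index with hi
  have hi0 : (i : ℂ) ≠ 0 := by
    intro h0
    have h3 : i = 0 := by exact_mod_cast h0
    rw [h3] at hy
    exact hy (dvd_zero p)
  have hd0 : ((charDegree (χ : G → ℂ) : ℕ) : ℂ) ≠ 0 := by exact_mod_cast h2.ne'
  have h3 : (χ : G → ℂ) y = (i : ℂ)⁻¹ * (centralChar (χ : G → ℂ) y * ((charDegree (χ : G → ℂ) : ℕ) : ℂ)) := by
    unfold centralChar
    rw [← hi, h1]
    field_simp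
  rw [h3]
  refine memLocalIdeal_mul_left (memLocalRing_inv_natCast hM hy) (memLocalIdeal_mul_left
    (memLocalRing_of_isIntegral (Blocks.CentralScalar.isIntegral_centralChar χ.2 y)) ?_)
  exact (memLocalIdeal_natCast_iff hM _).2 h

omit hp in
theorem loc_b (hM : IsPModular p M) {χ : IrrCharacter G} (hχ : χ ∈ principalBlock M G) {y : G}
    (hy : ¬ p ∣ (centralizer ({y} : Set G)).index) : MemLocalIdeal M ((χ : G → ℂ) y - (χ : G → ℂ) 1) := by
  have hMp := isPrime_of_isPModular hM
  obtain ⟨h1, h2, -⟩ := S0914.degree_spec χ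
  set i := (centralizer ({y} : Set G)).index with hi
  have hi0 : (i : ℂ) ≠ 0 := by
    intro h0
    have h3 : i = 0 := by exact_mod_cast h0
    rw [h3] at hy
    exact hy (dvd_zero p)
  have hd0 : ((charDegree (χ : G → ℂ) : ℕ) : ℂ) ≠ 0 := by exact_mod_cast h2.ne'
  have h4 : MemLocalIdeal M (centralChar (fun _ : G => (1 : ℂ)) y - centralChar (χ : G → ℂ) y) := hχ y
  have h3 : (χ : G → ℂ) y - (χ : G → ℂ) 1 = (i : ℂ)⁻¹ * (-((charDegree (χ : G → ℂ) : ℕ) : ℂ) *
      (centralChar (fun _ : G => (1 : ℂ)) y - centralChar (χ : G → ℂ) y)) := by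
    unfold centralChar
    rw [← hi, h1]
    field_simp
    ring
  rw [h3]
  exact memLocalIdeal_mul_left (memLocalRing_inv_natCast hM hy) (memLocalIdeal_mul_left
    (memLocalRing_neg (memLocalRing_natCast _)) h4)

theorem pow_ex_of_regular {y : G} (hy : ¬ p ∣ orderOf y) {w : (ZMod (Nat.card G))ˣ} (hw : w ∈ JJ p G) : y ^ ex w = y := by
  have h1 := (mem_JJ (p := p) w).1 hw
  have h2 : orderOf y ∣ mp p G := by
    have h3 := orderOf_dvd_natCard y
    have h4 := Nat.ordProj_mul_ordCompl_eq_self (Nat.card G) p
    rw [← h4] at h3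
    exact Nat.Coprime.dvd_of_dvd_mul_left (Nat.Coprime.pow_right _ ((Nat.Prime.coprime_iff_not_dvd hp.out).2 hy).symm) h3
  have h3 : ex w ≡ 1 [MOD orderOf y] := h1.of_dvd (h2.trans (mp_dvd_dd p G))
  have h4 : y ^ ex w = y ^ 1 := pow_eq_pow_iff_modEq.2 h3
  rw [h4, pow_one]

/-- **If all almost `p`-rational characters of degree prime to `p` are in the principal block then `C_G(P) ≤ P`.** -/
theorem centralizer_le_of_subset (hM : IsPModular p M) (P : Sylow p G)
    (h : ∀ χ : IrrCharacter G, ¬ p ∣ charDegree (χ : G → ℂ) → Alm p (χ : G → ℂ) → χ ∈ principalBlock M G) :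
    IsPGroup p (centralizer ((P : Subgroup G) : Set G)) := by
  classical
  have hMp := isPrime_of_isPModular hM
  -- there are no nontrivial `p'`-elements
  have key : ∀ y ∈ centralizer ((P : Subgroup G) : Set G), ¬ p ∣ orderOf y → y = 1 := by
    intro y hy hyp
    by_contra hy1
    have hfin : Finite (IrrCharacter G) := finite_irr
    let : Fintype (IrrCharacter G) := Fintype.ofFinite _
    let : Fintype G := Fintype.ofFinite G
    let act0 : MulAction (ZMod (Nat.card G))ˣ (IrrCharacter G) := gact G
    have : NeZero (Nat.card G) := ⟨(Nat.card_pos (α := G)).ne'⟩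
    have hsm : ∀ (u : JJ p G) (χ : IrrCharacter G), u • χ = pw u.1 χ := fun _ _ => rfl
    have hidx : ¬ p ∣ (centralizer ({y} : Set G)).index := by
      intro h1
      refine P.not_dvd_index (h1.trans (index_dvd_of_le ?_))
      intro x hx
      rw [mem_centralizer_singleton_iff]
      exact (mem_centralizer_iff.1 hy x hx)
    -- the permutation character on the cosets of `P`
    set ψ : G → ℂ := permC G (G ⧸ (P : Subgroup G)) with hψ
    have hψc : IsCharacter G ψ := S0157.isCharacter_fixedBy _
    obtain ⟨m, hm⟩ := exists_nat_comb hψc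
    have hmm : ∀ χ : IrrCharacter G, ip ψ (χ : G → ℂ) = ((m χ : ℕ) : ℂ) := by
      intro χ
      rw [ip_eq, hm, classInner_sum_nsmul_irr]
    have hminv : ∀ u ∈ JJ p G, ∀ χ, m (pw u χ) = m χ := by
      intro u _ χ
      have h1 := ip_pw u (fun g => permC_pow (G ⧸ (P : Subgroup G)) (ex_coprime u) g) χ
      rw [hmm, hmm] at h1
      exact_mod_cast h1
    have hval : ∀ g, ψ g = ∑ χ : IrrCharacter G, (m χ : ℂ) * (χ : G → ℂ) g := by
      intro g
      conv_lhs => rw [hm]
      rw [Finset.sum_apply]
      refine Finset.sum_congr rfl fun χ _ => ?_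
      rw [Pi.smul_apply, nsmul_eq_mul]
    obtain ⟨c, hc⟩ := exists_coef (p := p) (A := JJ p G) (isPGroup_JJ (p := p) (G := G)) (IrrCharacter G)
    have h1 := hc (fun χ => (m χ : ℂ) * (χ : G → ℂ) y) (fun u χ => by
      simp only [hsm]
      rw [hminv u.1 u.2, pw_apply, pow_ex_of_regular hyp u.2])
    have h2 := hc (fun χ => (m χ : ℂ) * (χ : G → ℂ) 1) (fun u χ => by
      simp only [hsm]
      rw [hminv u.1 u.2, pw_apply, one_pow])
    have h3 : MemLocalIdeal M (ψ y - ψ 1) := by
      rw [hval, hval, h1, h2]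
      have e1 : ∀ a b c d q : ℂ, (a + q * b) - (c + q * d) = (a - c) + q * (b - d) := fun a b c d q => by ring
      rw [e1, ← Finset.sum_sub_distrib, ← Finset.sum_sub_distrib]
      refine memLocalIdeal_add (memLocalIdeal_sum fun χ _ => ?_) (memLocalIdeal_mul_right
        ((memLocalIdeal_natCast_iff hM p).2 dvd_rfl) (memLocalRing_sum fun χ _ => ?_))
      · split_ifs with hfix
        · have hal : Alm p (χ : G → ℂ) := (alm_iff χ).2 fun u hu => hfix ⟨u, hu⟩
          rw [← mul_sub]
          refine memLocalIdeal_mul_left (memLocalRing_natCast _) ?_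
          by_cases hdeg : p ∣ charDegree (χ : G → ℂ)
          · refine memLocalIdeal_sub (loc_a hM hidx hdeg) ?_
            rw [(S0914.degree_spec χ).1]
            exact (memLocalIdeal_natCast_iff hM _).2 hdeg
          · exact loc_b hM (h χ hdeg hal) hidx
        · rw [sub_self]
          exact memLocalIdeal_zero
      · have hint : ∀ g, MemLocalRing M ((χ : G → ℂ) g) := fun g =>
          memLocalRing_of_isIntegral (GaloisBasic.isIntegral_apply (isIrr_isCharacter χ.2) g)
        exact memLocalRing_sub (memLocalRing_mul (memLocalRing_natCast _) (memLocalRing_mul (memLocalRing_natCast _) (hint y)))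
          (memLocalRing_mul (memLocalRing_natCast _) (memLocalRing_mul (memLocalRing_natCast _) (hint 1)))
    have h4 : ψ y = 0 := by
      rw [hψ]
      unfold permC
      have h5 : IsEmpty (MulAction.fixedBy (G ⧸ (P : Subgroup G)) y) := by
        refine ⟨?_⟩
        rintro ⟨x, hx⟩
        induction x using QuotientGroup.induction_on with
        | H g =>
          rw [MulAction.mem_fixedBy] at hx
          have h6 : g⁻¹ * (y * g) ∈ (P : Subgroup G) := by
            rw [← QuotientGroup.eq]
            exact hx.symm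
          apply hy1
          have h7 : orderOf (g⁻¹ * (y * g)) = orderOf y := by
            have h8 : g⁻¹ * (y * g) = MulAut.conj g⁻¹ y := by
              rw [MulAut.conj_apply, inv_inv, mul_assoc]
            rw [h8]
            exact orderOf_injective (MulAut.conj g⁻¹ : G →* G) (MulAut.conj g⁻¹).injective y
          obtain ⟨k, hk⟩ := IsPGroup.iff_orderOf.1 P.isPGroup' ⟨_, h6⟩
          rw [Subgroup.orderOf_mk, h7] at hk
          rcases Nat.eq_zero_or_pos k with h9 | h9
          · rw [h9, pow_zero] at hk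
            exact orderOf_eq_one_iff.1 hk
          · exact absurd (hk ▸ dvd_pow_self p h9.ne') hyp
      rw [Nat.card_of_isEmpty, Nat.cast_zero]
    have h5 : ψ 1 = (((P : Subgroup G).index : ℕ) : ℂ) := by
      rw [hψ]
      unfold permC
      have h6 : MulAction.fixedBy (G ⧸ (P : Subgroup G)) (1 : G) = Set.univ := by
        ext v
        simp
      rw [h6, Nat.card_univ]
      rfl
    rw [h4, h5, zero_sub, memLocalIdeal_neg_iff, memLocalIdeal_natCast_iff hM] at h3
    exact P.not_dvd_index h3
  intro c
  refine ⟨(orderOf (c : G)).factorization p, Subtype.ext ?_⟩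
  rw [Subgroup.coe_pow, Subgroup.coe_one]
  refine key _ (Subgroup.pow_mem _ c.2 _) ?_
  rw [orderOf_pow' _ (pow_pos hp.out.pos _).ne', Nat.gcd_eq_right (Nat.ordProj_dvd _ _)]
  exact Nat.not_dvd_ordCompl hp.out (orderOf_pos _).ne'

end Cfsg.Agent.H674.XZ
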