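import Cfsg.Agent.H674.XZ.IsoComp
import Cfsg.Agent.H965.XZ.PAb

/-!
# S4791 + S4927, linear primes: nonabelian `p`-groups of isometries (helper674)

`F` a finite field, `σ a = a ^ (r ^ s)` on `F`, `p ∤ |F| ^ j + r ^ s` for all `j`, `e` the order of `|F|` modulo `p`.

* `two_le_finrank` : a nonabelian `p`-group of isometries of a nondegenerate `σ`-sesquilinear form has degree at least `2 p e`.
-/

set_option autoImplicit false
set_option linter.unusedSectionVars false

namespace Cfsg.Agent.H674.XZ.Iso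

open Polynomial Module
open scoped commutatorElement

universe u v

variable {p : ℕ} [hp : Fact p.Prime] {F : Type u} [Field F] [Fintype F]

section sub

variable {V : Type v} [AddCommGroup V] [Module F V] [FiniteDimensional F V]

/-- the bound for an invariant subspace on which a commutator acts nontrivially -/
theorem sub_bound (hpF : (p : F) ≠ 0) {R : Type*} [Group R] [Finite R] (hR : IsPGroup p R) (ρ : R →* End F V)
    {W : Submodule F V} (hW : ∀ x : R, ∀ w ∈ W, ρ x w ∈ W) {z : R} (hz : z ∈ commutator R) {w : V} (hw : w ∈ W)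
    (hzw : ρ z w ≠ w) : p * orderOf (Fintype.card F : ZMod p) ≤ finrank F W := by
  let ρW : R →* End F W :=
    { toFun := fun x => (ρ x).restrict (hW x)
      map_one' := LinearMap.ext fun a => Subtype.ext (by
        show ρ 1 (a : V) = a
        rw [map_one]; rfl)
      map_mul' := fun x y => LinearMap.ext fun a => Subtype.ext (by
        show ρ (x * y) (a : V) = ρ x (ρ y a)
        rw [map_mul]; rfl) }
  let τ : R →* (End F W)ˣ := ρW.toHomUnits
  have h1 := H965.XZ.le_finrank_of_nonab hpF (hR.to_quotient τ.ker)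
    ((Units.coeHom (End F W)).comp (QuotientGroup.kerLift τ))
    (Units.val_injective.comp (QuotientGroup.kerLift_injective τ)) (by
      intro hcm
      have h2 : commutator R ≤ τ.ker := by
        rw [commutator_def, Subgroup.commutator_le]
        intro a _ b _
        have h2 : ((⁅a, b⁆ : R) : R ⧸ τ.ker) = 1 :=
          commutatorElement_eq_one_iff_mul_comm.2 (hcm (QuotientGroup.mk a) (QuotientGroup.mk b))
        exact (QuotientGroup.eq_one_iff _).1 h2
      have h3 := MonoidHom.mem_ker.1 (h2 hz)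
      have h4 : ρW z = 1 := congrArg Units.val h3
      exact hzw (congrArg (fun L : End F W => ((L ⟨w, hw⟩ : W) : V)) h4))
  rwa [Nat.card_eq_fintype_card] at h1

end sub

section dual

variable {M : Type v} [AddCommGroup M] [Module F M]

/-- the dual polynomial -/
noncomputable def dualP (p : ℕ) (σ : F ≃+* F) (f : F[X]) : F[X] := expand F (p - 1) (f.map (σ.symm : F →+* F))

theorem dual_apply {σ : F ≃+* F} {x : End F M} (hx : x ^ p = 1) {B : M → M → F}
    (hadd1 : ∀ u u' v, B (u + u') v = B u v + B u' v) (hadd2 : ∀ u v v', B u (v + v') = B u v + B u v')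
    (hs1 : ∀ (a : F) u v, B (a • u) v = a * B u v) (hs2 : ∀ (a : F) u v, B u (a • v) = σ a * B u v)
    (hinv : ∀ u v, B (x u) (x v) = B u v) (P : F[X]) (u v : M) :
    B u (aeval x (dualP p σ P) v) = B (aeval x P u) v := by
  unfold dualP
  induction P using Polynomial.induction_on' generalizing u v with
  | add P Q hP hQ =>
    rw [Polynomial.map_add, map_add, map_add, map_add, LinearMap.add_apply, LinearMap.add_apply, hadd1, hadd2, hP, hQ]
  | monomial n b =>
    rw [map_monomial, expand_monomial, aeval_monomial, aeval_monomial, End.mul_apply, End.mul_apply,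
      Module.algebraMap_end_apply, Module.algebraMap_end_apply, hs1, hs2, pair_pow hx hinv, mul_comm n]
    congr 1
    exact σ.apply_symm_apply b

theorem dual_eval_one {σ : F ≃+* F} (f : F[X]) : (dualP p σ f).eval 1 = σ.symm (f.eval 1) := by
  unfold dualP
  rw [expand_eval, one_pow, eval_one_map]
  rfl

/-- a polynomial `f` of degree at most `e` and its dual have no common root of order `p` -/
theorem dual_no_root {K : Type*} [Field K] [Algebra F K] {r s : ℕ} [Fact r.Prime]
    [CharP F r] {σ : F ≃+* F} (hσ : ∀ a, σ a = a ^ (r ^ s)) (hlin : ∀ j, ¬ p ∣ Fintype.card F ^ j + r ^ s) {f : F[X]}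
    (hf0 : f ≠ 0) (hdeg : f.natDegree ≤ orderOf (Fintype.card F : ZMod p)) {a : K} (h6 : a ^ p = 1) (h7 : a ≠ 1)
    (h1 : aeval a f = 0) (h2 : aeval a (dualP p σ f) = 0) : False := by
  have h4 : aeval (a ^ (p - 1)) (f.map (σ.symm : F →+* F)) = 0 := by
    rw [← expand_aeval]
    exact h2
  have : CharP K r := charP_of_injective_algebraMap (algebraMap F K).injective r
  have h5 : aeval ((a ^ (p - 1)) ^ (r ^ s)) f = 0 := by
    have h6 := congrArg (iterateFrobenius K r s) h4
    rw [map_zero, aeval_def, hom_eval₂, eval₂_map] at h6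
    rw [aeval_def, ← iterateFrobenius_def (R := K) r s]
    have h7 : ((iterateFrobenius K r s).comp (algebraMap F K)).comp (σ.symm : F →+* F) = algebraMap F K := by
      apply RingHom.ext
      intro b
      rw [RingHom.comp_apply, RingHom.comp_apply, iterateFrobenius_def, ← map_pow]
      congr 1
      rw [← hσ]
      exact σ.apply_symm_apply b
    rwa [h7] at h6
  obtain ⟨j, hj⟩ := eq_pow_of_root hf0 hdeg h6 h7 h1 h5
  apply hlin j
  have ho : orderOf a = p := orderOf_eq_prime h6 h7
  rw [← pow_mul, IsOfFinOrder.pow_eq_pow_iff_modEq (isOfFinOrder_iff_pow_eq_one.2 ⟨p, hp.out.pos, h6⟩), ho] at hj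
  have h8 : Fintype.card F ^ j + r ^ s ≡ (p - 1) * r ^ s + r ^ s [MOD p] := (hj.symm).add_right _
  have h9 : (p - 1) * r ^ s + r ^ s = p * r ^ s := by
    obtain ⟨d, hd⟩ : ∃ d, p = d + 1 := ⟨p - 1, by have := hp.out.pos; omega⟩
    rw [hd, Nat.add_sub_cancel]
    ring
  rw [h9] at h8
  exact (Nat.modEq_zero_iff_dvd.1 (h8.trans (Nat.modEq_zero_iff_dvd.2 (Dvd.intro _ rfl))))

end dual

section main

variable {V : Type v} [AddCommGroup V] [Module F V] [FiniteDimensional F V]

/-- the degree of the irreducible factors of the `p`-th cyclotomic polynomial -/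
theorem natDegree_eq (hpq : ¬ p ∣ Fintype.card F) {f : F[X]} (hf : Irreducible f) (hfΦ : f ∣ cyclotomic p F) :
    f.natDegree = orderOf (Fintype.card F : ZMod p) := by
  obtain ⟨r, hr⟩ := CharP.exists F
  have hrp : r.Prime := CharP.char_is_prime F r
  have : Fact r.Prime := ⟨hrp⟩
  obtain ⟨k, hk, hcard⟩ := FiniteField.card F r
  have hcop : r.Coprime p := by
    rw [Nat.coprime_primes hrp hp.out]
    rintro rfl
    apply hpq
    rw [hcard]
    exact dvd_pow_self _ k.pos.ne'
  rw [natDegree_of_dvd_cyclotomic_of_irreducible hcard hcop hfΦ hf, ← orderOf_units, ZMod.coe_unitOfCoprime, hcard]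

/-- commuting with the polynomials in `T` -/
theorem commute_aeval {x T : End F V} (h : Commute x T) (g : F[X]) : Commute x (aeval T g) := by
  rw [aeval_eq_sum_range]
  exact Commute.sum_right _ _ _ fun i _ => (h.pow_right i).smul_right _

/-- **Nonabelian `p`-groups of isometries, linear primes**: the degree is at least `2 p e`. -/
theorem two_le_finrank (hpF : (p : F) ≠ 0) {r s : ℕ} [Fact r.Prime] [CharP F r] (σ : F ≃+* F)
    (hσ : ∀ a, σ a = a ^ (r ^ s)) (hlin : ∀ j, ¬ p ∣ Fintype.card F ^ j + r ^ s)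
    {R : Type*} [Group R] [Finite R] (hR : IsPGroup p R)
    (ρ : R →* End F V) (hρ : Function.Injective ρ) (hna : ¬ ∀ x y : R, x * y = y * x) {B : V → V → F}
    (hadd1 : ∀ u u' v, B (u + u') v = B u v + B u' v) (hadd2 : ∀ u v v', B u (v + v') = B u v + B u v')
    (hs1 : ∀ (a : F) u v, B (a • u) v = a * B u v) (hs2 : ∀ (a : F) u v, B u (a • v) = σ a * B u v)
    (hinv : ∀ x u v, B (ρ x u) (ρ x v) = B u v) (hnd : ∀ u, (∀ v, B u v = 0) → u = 0) :
    2 * (p * orderOf (Fintype.card F : ZMod p)) ≤ finrank F V := by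
  classical
  have hpq : ¬ p ∣ Fintype.card F := by
    intro h
    obtain ⟨k, hk⟩ := h
    apply hpF
    have h2 : ((Fintype.card F : ℕ) : F) = 0 := FiniteField.cast_card_eq_zero F
    have h3 : IsNilpotent ((p : ℕ) : F) ∨ True := Or.inr trivial
    -- `p` divides a power of `r`
    obtain ⟨n, hn, hcard⟩ := FiniteField.card F r
    have h4 : p ∣ r ^ (n : ℕ) := by rw [← hcard, hk]; exact Dvd.intro _ rfl
    have h5 : p ∣ r := hp.out.dvd_of_dvd_pow h4
    have h6 : p = r := (Nat.prime_dvd_prime_iff_eq hp.out (Fact.out : r.Prime)).1 h5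
    rw [h6]
    exact CharP.cast_eq_zero F r
  have hnil : Group.IsNilpotent R := hR.isNilpotent
  have hc : commutator R ≠ ⊥ := by
    intro h
    apply hna
    intro x y
    have h1 : ⁅x, y⁆ ∈ commutator R := Subgroup.commutator_mem_commutator (Subgroup.mem_top x) (Subgroup.mem_top y)
    rw [h, Subgroup.mem_bot] at h1
    exact commutatorElement_eq_one_iff_mul_comm.1 h1
  have h1 := Lib.NormalAbelian.normal_inf_center_ne_bot (commutator R) hc
  obtain ⟨z, hz, hzo⟩ : ∃ z ∈ commutator R ⊓ Subgroup.center R, orderOf z = p := by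
    have h2 : IsPGroup p ↥(commutator R ⊓ Subgroup.center R) := hR.to_subgroup _
    have hnt : Nontrivial ↥(commutator R ⊓ Subgroup.center R) := (Subgroup.nontrivial_iff_ne_bot _).2 h1
    have hd : p ∣ Nat.card ↥(commutator R ⊓ Subgroup.center R) := by
      obtain ⟨n, hn⟩ := h2.exists_card_eq
      rcases Nat.eq_zero_or_pos n with h0 | h0
      · rw [h0, pow_zero] at hn
        exact absurd hn (Finite.one_lt_card).ne'
      · rw [hn]
        exact dvd_pow_self p h0.ne'
    obtain ⟨z, hz⟩ := exists_prime_orderOf_dvd_card' p hd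
    exact ⟨z, z.2, by rw [Subgroup.orderOf_coe]; exact hz⟩
  have hzc : ∀ x : R, z * x = x * z := fun x => (Subgroup.mem_center_iff.1 hz.2 x).symm
  set T : End F V := ρ z with hT
  have hTp : T ^ p = 1 := by
    rw [hT, ← map_pow, ← hzo, pow_orderOf_eq_one, map_one]
  have hT1 : T ≠ 1 := by
    intro h
    have h2 : z = 1 := hρ (by rw [map_one]; exact h)
    rw [h2, orderOf_one] at hzo
    exact hp.out.one_lt.ne hzo
  have hcT : ∀ x, Commute (ρ x) T := fun x => by
    show ρ x * ρ z = ρ z * ρ x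
    rw [← map_mul, ← map_mul, hzc]
  set Φ : F[X] := cyclotomic p F with hΦdef
  have hΦ : Φ * (X - 1) = X ^ p - 1 := cyclotomic_prime_mul_X_sub_one F p
  have hΦ0 : Φ ≠ 0 := cyclotomic_ne_zero p F
  have hΦ1 : Φ.eval 1 = (p : F) := eval_one_cyclotomic_prime
  -- a vector in `[V, T]`
  obtain ⟨v₀, hv₀⟩ : ∃ v, (T - 1) v ≠ 0 := by
    by_contra h
    push Not at h
    exact hT1 (sub_eq_zero.1 (LinearMap.ext h))
  have hkill : aeval T Φ ((T - 1) v₀) = 0 := by
    have e1 : T - 1 = aeval T (X - 1 : F[X]) := by rw [map_sub, aeval_X, map_one]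
    rw [e1, ← End.mul_apply, ← map_mul, hΦ, map_sub, map_pow, aeval_X, map_one, hTp, sub_self,
      LinearMap.zero_apply]
  obtain ⟨f, hf, hfΦ, u, hu0, hu⟩ := H965.XZ.exists_factor hΦ0 hv₀ hkill
  have hdeg : f.natDegree ≤ orderOf (Fintype.card F : ZMod p) := (natDegree_eq hpq hf hfΦ).le
  have hf1 : f.eval 1 ≠ 0 := by
    intro h
    obtain ⟨k, hk⟩ := hfΦ
    apply hpF
    rw [← hΦ1, hk, eval_mul, h, zero_mul]
  set g : F[X] := dualP p σ f with hg
  have hg1 : g.eval 1 ≠ 0 := by
    rw [hg, dual_eval_one]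
    intro h
    exact hf1 ((map_eq_zero_iff σ.symm σ.symm.injective).1 h)
  have hTfix : ∀ (P : F[X]) {w : V}, T w = w → aeval T P w = P.eval 1 • w := by
    intro P w hw
    induction P using Polynomial.induction_on' with
    | add P Q hP hQ => rw [map_add, LinearMap.add_apply, hP, hQ, eval_add, add_smul]
    | monomial k b =>
      have h6 : ∀ k : ℕ, (T ^ k) w = w := by
        intro k
        induction k with
        | zero => rfl
        | succ k ih => rw [pow_succ', End.mul_apply, ih, hw]
      rw [aeval_monomial, End.mul_apply, h6, Module.algebraMap_end_apply, eval_monomial, one_pow, mul_one]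
  have hinvT : ∀ u v, B (T u) (T v) = B u v := fun u v => hinv z u v
  -- the two spaces
  have hW : ∀ (P : F[X]) (x : R), ∀ w ∈ LinearMap.ker (aeval T P), ρ x w ∈ LinearMap.ker (aeval T P) := by
    intro P x w hw
    rw [LinearMap.mem_ker] at hw ⊢
    rw [← End.mul_apply, ← (commute_aeval (hcT x) P).eq, End.mul_apply, hw, map_zero]
  have hb : ∀ (P : F[X]), P.eval 1 ≠ 0 → ∀ w ∈ LinearMap.ker (aeval T P), w ≠ 0 →
      p * orderOf (Fintype.card F : ZMod p) ≤ finrank F (LinearMap.ker (aeval T P)) := by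
    intro P hP w hw hw0
    refine sub_bound hpF hR ρ (hW P) hz.1 hw fun h => hw0 ?_
    rw [LinearMap.mem_ker, hTfix P h] at hw
    exact (smul_eq_zero.1 hw).resolve_left hP
  have h2 := hb f hf1 u hu hu0
  obtain ⟨w, hw, hw0⟩ : ∃ w ∈ LinearMap.ker (aeval T g), w ≠ 0 := by
    by_contra hcon
    push Not at hcon
    have hker : LinearMap.ker (aeval T g) = ⊥ := by
      rw [eq_bot_iff]
      intro w hw
      exact (Submodule.mem_bot F).2 (hcon w hw)
    have hsur : Function.Surjective (aeval T g) :=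
      LinearMap.injective_iff_surjective.1 (LinearMap.ker_eq_bot.1 hker)
    apply hu0
    apply hnd
    intro v
    obtain ⟨v', rfl⟩ := hsur v
    rw [hg, dual_apply hTp hadd1 hadd2 hs1 hs2 hinvT, hu]
    have := hs1 0 0 v'
    rwa [zero_smul, zero_mul] at this
  have h3 := hb g hg1 w hw hw0
  have hcop : IsCoprime f g := by
    rw [isCoprime_iff_aeval_ne_zero_of_isAlgClosed F (AlgebraicClosure F)]
    intro a
    by_contra hcon
    push Not at hcon
    obtain ⟨k, hk⟩ := hfΦ
    have h5 : aeval a Φ = 0 := by rw [hk, map_mul, hcon.1, zero_mul]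
    have h6 : a ^ p = 1 := by
      have h7 := congrArg (aeval a) hΦ
      rw [map_mul, h5, zero_mul, map_sub, map_pow, aeval_X, map_one] at h7
      exact (sub_eq_zero.1 h7.symm)
    have h7 : a ≠ 1 := by
      intro ha
      rw [ha, aeval_def, ← map_one (algebraMap F (AlgebraicClosure F)), eval₂_at_apply, hΦ1] at h5
      exact hpF ((map_eq_zero_iff _ (algebraMap F (AlgebraicClosure F)).injective).1 h5)
    exact dual_no_root hσ hlin hf.ne_zero hdeg h6 h7 hcon.1 hcon.2
  have hdis : Disjoint (LinearMap.ker (aeval T f)) (LinearMap.ker (aeval T g)) := by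
    rw [Submodule.disjoint_def]
    intro v hv1 hv2
    obtain ⟨a, b, hab⟩ := hcop
    have h5 := congrArg (fun P => aeval T P v) hab
    simp only [map_add, map_mul, map_one, LinearMap.add_apply, End.mul_apply, End.one_apply] at h5
    rw [LinearMap.mem_ker] at hv1 hv2
    rw [hv1, hv2, map_zero, map_zero, add_zero] at h5
    exact h5.symm
  have h4 := Submodule.finrank_add_finrank_le_of_disjoint hdis
  omega

/-- transport of commutativity along a surjective homomorphism -/
theorem comm_of_surj {G : Type*} [Group G] [Finite G] {S : Type*} [Group S] [Finite S] (π : G →* S)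
    (hπ : Function.Surjective π) (Q : Sylow p G) (hQ : ∀ x ∈ (Q : Subgroup G), ∀ y ∈ (Q : Subgroup G), x * y = y * x)
    (P : Sylow p S) : ∀ x ∈ (P : Subgroup S), ∀ y ∈ (P : Subgroup S), x * y = y * x := by
  obtain ⟨g, hg⟩ := MulAction.exists_smul_eq S (Q.mapSurjective hπ) P
  have h1 : ∀ x ∈ (P : Subgroup S), ∃ a ∈ (Q : Subgroup G), x = g * π a * g⁻¹ := by
    intro x hx
    rw [← hg, Sylow.coe_subgroup_smul, Subgroup.mem_pointwise_smul_iff_inv_smul_mem] at hx
    obtain ⟨a, ha, h2⟩ := hx
    refine ⟨a, ha, ?_⟩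
    have h3 : π a = g⁻¹ * x * g := by
      rw [h2]
      show (MulAut.conj g)⁻¹ x = _
      rw [← map_inv, MulAut.conj_apply, inv_inv]
    rw [h3]
    group
  intro x hx y hy
  obtain ⟨a, ha, rfl⟩ := h1 x hx
  obtain ⟨b, hb, rfl⟩ := h1 y hy
  have h2 : π a * π b = π b * π a := by rw [← map_mul, ← map_mul, hQ a ha b hb]
  calc g * π a * g⁻¹ * (g * π b * g⁻¹) = g * (π a * π b) * g⁻¹ := by group
    _ = g * (π b * π a) * g⁻¹ := by rw [h2]
    _ = _ := by group

/-- **Abelian Sylow subgroups, any prime**: `dim V < p ord_p |F|` -/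
theorem comm_of_lt (hpF : (p : F) ≠ 0) {G : Type*} [Group G] [Finite G] {S : Type*} [Group S] [Finite S] (π : G →* S)
    (hπ : Function.Surjective π) (ρ : G →* End F V) (hρ : Function.Injective ρ)
    (hlt : finrank F V < p * orderOf (Fintype.card F : ZMod p)) (P : Sylow p S) :
    ∀ x ∈ (P : Subgroup S), ∀ y ∈ (P : Subgroup S), x * y = y * x := by
  obtain ⟨Q⟩ : Nonempty (Sylow p G) := inferInstance
  refine comm_of_surj π hπ Q ?_ P
  by_contra hcon
  have h1 := H965.XZ.le_finrank_of_nonab hpF Q.2 (ρ.comp (Q : Subgroup G).subtype)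
    (hρ.comp (Q : Subgroup G).subtype_injective) (fun h => hcon fun x hx y hy => congrArg Subtype.val (h ⟨x, hx⟩ ⟨y, hy⟩))
  rw [Nat.card_eq_fintype_card] at h1
  omega

/-- **Abelian Sylow subgroups, linear primes**: `dim V < 2 p ord_p |F|` -/
theorem comm_of_lt_lin (hpF : (p : F) ≠ 0) {r s : ℕ} [Fact r.Prime] [CharP F r] (σ : F ≃+* F)
    (hσ : ∀ a, σ a = a ^ (r ^ s)) (hlin : ∀ j, ¬ p ∣ Fintype.card F ^ j + r ^ s)
    {G : Type*} [Group G] [Finite G] {S : Type*} [Group S] [Finite S] (π : G →* S)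
    (hπ : Function.Surjective π) (ρ : G →* End F V) (hρ : Function.Injective ρ) {B : V → V → F}
    (hadd1 : ∀ u u' v, B (u + u') v = B u v + B u' v) (hadd2 : ∀ u v v', B u (v + v') = B u v + B u v')
    (hs1 : ∀ (a : F) u v, B (a • u) v = a * B u v) (hs2 : ∀ (a : F) u v, B u (a • v) = σ a * B u v)
    (hinv : ∀ x u v, B (ρ x u) (ρ x v) = B u v) (hnd : ∀ u, (∀ v, B u v = 0) → u = 0)
    (hlt : finrank F V < 2 * (p * orderOf (Fintype.card F : ZMod p))) (P : Sylow p S) :
    ∀ x ∈ (P : Subgroup S), ∀ y ∈ (P : Subgroup S), x * y = y * x := by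
  obtain ⟨Q⟩ : Nonempty (Sylow p G) := inferInstance
  refine comm_of_surj π hπ Q ?_ P
  by_contra hcon
  have h1 := two_le_finrank hpF σ hσ hlin Q.2 (ρ.comp (Q : Subgroup G).subtype)
    (hρ.comp (Q : Subgroup G).subtype_injective) (fun h => hcon fun x hx y hy => congrArg Subtype.val (h ⟨x, hx⟩ ⟨y, hy⟩))
    hadd1 hadd2 hs1 hs2 (fun x u v => hinv _ u v) hnd
  omega

end main

end Cfsg.Agent.H674.XZ.Iso
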