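import Cfsg.Agent.H674.XZ.Gal
import Cfsg.Agent.H667.BR.Crit

/-!
# S4791 + S4927, base: the functional `F` (helper674)

`P` a Sylow `p`-subgroup of the finite group `G`.

* `FV p M ψ c` : `ψ` is a generalized character, invariant under the group `JJ p G` of exponents, and the sum of
  `[ψ, χ] χ(1)` over the principal block is congruent to `c` modulo `p` ("`F(ψ) = c`").
* `FV.perm` : a permutation character: `c = cnt P X`, the number of `C_G(P)`-orbits on the `P`-fixed points;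
  `FV.add`, `FV.sub`, `FV.neg`, `FV.zsmul`, `FV.sum`, `FV.comb` : integer combinations.
* `FV.sum_mem0` : the F-lemma: the sum over the members of `X0` is `c`.
* `FV.exists_mem0` : if `p ∤ c` there is a member of `X0` with multiplicity prime to `p`.
* `le_x0` : disjoint `ψ_i` with `F(ψ_i) ≠ 0` : at most `|X0|` of them; `le_x0_of_orth` : the version for orthogonal
  (genuine) characters.
-/

set_option autoImplicit false

open scoped ComplexConjugate

namespace Cfsg.Agent.H674.XZ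

open Cfsg Cfsg.Agent.Characters Cfsg.Agent.Characters.Core Cfsg.Agent.H145.BR Cfsg.Agent.H667.BR

universe u v

variable {p : ℕ} {M : Ideal AlgInt} {G : Type u} [Group G] [Finite G]

/-! ### the inner product, without `Fintype` -/

/-- the inner product -/
noncomputable def ip (ψ χ : G → ℂ) : ℂ := @classInner G _ (Fintype.ofFinite G) ψ χ

theorem ip_eq [i : Fintype G] (ψ χ : G → ℂ) : ip ψ χ = classInner ψ χ := by
  have h : Fintype.ofFinite G = i := Subsingleton.elim _ _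
  unfold ip
  rw [h]

theorem ip_add (ψ₁ ψ₂ χ : G → ℂ) : ip (ψ₁ + ψ₂) χ = ip ψ₁ χ + ip ψ₂ χ := by
  have := Fintype.ofFinite G
  rw [ip_eq, ip_eq, ip_eq, classInner_add_left]

theorem ip_neg (ψ χ : G → ℂ) : ip (-ψ) χ = - ip ψ χ := by
  have := Fintype.ofFinite G
  rw [ip_eq, ip_eq, classInner_neg_left]

theorem ip_sub (ψ₁ ψ₂ χ : G → ℂ) : ip (ψ₁ - ψ₂) χ = ip ψ₁ χ - ip ψ₂ χ := by
  have := Fintype.ofFinite G
  rw [ip_eq, ip_eq, ip_eq, classInner_sub_left]

theorem ip_zero (χ : G → ℂ) : ip (0 : G → ℂ) χ = 0 := by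
  have := Fintype.ofFinite G
  rw [ip_eq, classInner_zero_left]

theorem ip_zsmul (n : ℤ) (ψ χ : G → ℂ) : ip (n • ψ) χ = n * ip ψ χ := by
  have := Fintype.ofFinite G
  rw [ip_eq, ip_eq, ← Int.cast_smul_eq_zsmul ℂ, classInner_smul_left]

theorem ip_nat {ψ χ : G → ℂ} (hψ : IsCharacter G ψ) (hχ : IsCharacter G χ) : ∃ n : ℕ, ip ψ χ = n := by
  have := Fintype.ofFinite G
  rw [ip_eq]
  exact classInner_isNat hψ hχ

theorem ip_perm (X : Type v) [MulAction G X] [Finite X] (χ : IrrCharacter G) :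
    ip (permC G X) (χ : G → ℂ) = mult X χ := by
  have := Fintype.ofFinite G
  rw [ip_eq]
  exact mult_eq X χ

/-! ### the sum over the principal block -/

open scoped Classical in
/-- the sum of `m χ χ(1)` over the principal block -/
noncomputable def bsum (M : Ideal AlgInt) (m : IrrCharacter G → ℤ) : ℤ :=
  haveI := finite_irr (G := G)
  letI := Fintype.ofFinite (IrrCharacter G)
  ∑ χ : IrrCharacter G, if χ ∈ principalBlock M G then m χ * charDegree (χ : G → ℂ) else 0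

theorem bsum_add (m n : IrrCharacter G → ℤ) : bsum M (fun χ => m χ + n χ) = bsum M m + bsum M n := by
  classical
  unfold bsum
  rw [← Finset.sum_add_distrib]
  refine Finset.sum_congr rfl fun χ _ => ?_
  split_ifs <;> ring

theorem bsum_zsmul (k : ℤ) (m : IrrCharacter G → ℤ) : bsum M (fun χ => k * m χ) = k * bsum M m := by
  classical
  unfold bsum
  rw [Finset.mul_sum]
  refine Finset.sum_congr rfl fun χ _ => ?_
  split_ifs <;> ring

theorem bsum_mult (X : Type v) [MulAction G X] [Finite X] : bsum M (fun χ : IrrCharacter G => (mult X χ : ℤ)) = (bdeg M G X : ℤ) := by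
  classical
  unfold bsum bdeg
  push_cast
  refine Finset.sum_congr rfl fun χ _ => ?_
  split_ifs
  · ring
  · rfl

open scoped Classical in
/-- the sum of `m χ χ(1)` over the members of `X0` -/
noncomputable def xsum (p : ℕ) (M : Ideal AlgInt) (m : IrrCharacter G → ℤ) : ℤ :=
  haveI := finite_irr (G := G)
  letI := Fintype.ofFinite (IrrCharacter G)
  ∑ χ : IrrCharacter G, if Mem0 p M χ then m χ * charDegree (χ : G → ℂ) else 0

/-- the sum over the members of `X0`, for an invariant family of multiplicities -/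
theorem bsum_modEq_xsum [hp : Fact p.Prime] (m : IrrCharacter G → ℤ) (hm : ∀ u ∈ JJ p G, ∀ χ, m (pw u χ) = m χ) :
    bsum M m ≡ xsum p M m [ZMOD p] := by
  classical
  have hfin : Finite (IrrCharacter G) := finite_irr
  let : Fintype (IrrCharacter G) := Fintype.ofFinite _
  let act0 : MulAction (ZMod (Nat.card G))ˣ (IrrCharacter G) := gact G
  have : NeZero (Nat.card G) := ⟨(Nat.card_pos (α := G)).ne'⟩
  have hsm : ∀ (u : JJ p G) (χ : IrrCharacter G), u • χ = pw u.1 χ := fun _ _ => rfl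
  have h1 := sum_modEq_fixed (p := p) (A := JJ p G) (isPGroup_JJ (p := p) (G := G)) (I := IrrCharacter G)
    (fun χ => if χ ∈ principalBlock M G then m χ * charDegree (χ : G → ℂ) else 0) (fun u χ => by
      simp only [hsm]
      rw [hm _ u.2, charDegree_pw]
      simp only [pw_mem_iff])
  refine h1.trans ?_
  unfold xsum
  rw [Int.modEq_iff_dvd, ← Finset.sum_sub_distrib]
  refine Finset.dvd_sum fun χ _ => ?_
  have h2 : (∀ u : JJ p G, u • χ = χ) ↔ Alm p (χ : G → ℂ) := by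
    rw [alm_iff]
    exact ⟨fun h u hu => h ⟨u, hu⟩, fun h u => h u.1 u.2⟩
  by_cases h3 : Alm p (χ : G → ℂ)
  · rw [if_pos (h2.2 h3)]
    by_cases h4 : χ ∈ principalBlock M G
    · rw [if_pos h4]
      by_cases h5 : p ∣ charDegree (χ : G → ℂ)
      · rw [if_neg (fun h => h.2.1 h5), zero_sub]
        exact (Dvd.dvd.mul_left (by exact_mod_cast h5) _).neg_right
      · rw [if_pos ⟨h4, h5, h3⟩, sub_self]
        exact dvd_zero _
    · rw [if_neg h4, if_neg (fun h => h4 h.1), sub_self]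
      exact dvd_zero _
  · rw [if_neg (fun h => h3 (h2.1 h)), if_neg (fun h => h3 h.2.2), sub_self]
    exact dvd_zero _

/-! ### the functional -/

/-- `F(ψ) = c` -/
structure FV (p : ℕ) (M : Ideal AlgInt) {G : Type u} [Group G] [Finite G] (ψ : G → ℂ) (c : ℤ) : Prop where
  inv : ∀ w ∈ JJ p G, ∀ g : G, ψ (g ^ ex w) = ψ g
  int : ∃ m : IrrCharacter G → ℤ, (∀ χ : IrrCharacter G, ip ψ (χ : G → ℂ) = m χ) ∧ bsum M m ≡ c [ZMOD p]

theorem FV.congr {ψ : G → ℂ} {c d : ℤ} (h : FV p M ψ c) (hcd : c ≡ d [ZMOD p]) : FV p M ψ d := by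
  obtain ⟨m, h1, h2⟩ := h.int
  exact ⟨h.inv, m, h1, h2.trans hcd⟩

theorem FV.add {ψ φ : G → ℂ} {c d : ℤ} (h : FV p M ψ c) (h' : FV p M φ d) : FV p M (ψ + φ) (c + d) := by
  obtain ⟨m, h1, h2⟩ := h.int
  obtain ⟨n, h3, h4⟩ := h'.int
  refine ⟨fun w hw g => ?_, fun χ => m χ + n χ, fun χ => ?_, ?_⟩
  · rw [Pi.add_apply, Pi.add_apply, h.inv w hw, h'.inv w hw]
  · rw [ip_add, h1, h3, Int.cast_add]
  · rw [bsum_add]
    exact h2.add h4

theorem FV.zsmul {ψ : G → ℂ} {c : ℤ} (h : FV p M ψ c) (k : ℤ) : FV p M (k • ψ) (k * c) := by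
  obtain ⟨m, h1, h2⟩ := h.int
  refine ⟨fun w hw g => ?_, fun χ => k * m χ, fun χ => ?_, ?_⟩
  · rw [Pi.smul_apply, Pi.smul_apply, h.inv w hw]
  · rw [ip_zsmul, h1, Int.cast_mul]
  · rw [bsum_zsmul]
    exact h2.mul_left k

theorem FV.neg {ψ : G → ℂ} {c : ℤ} (h : FV p M ψ c) : FV p M (-ψ) (-c) := by
  have h1 := h.zsmul (-1)
  rwa [neg_one_smul, neg_one_mul] at h1

theorem FV.sub {ψ φ : G → ℂ} {c d : ℤ} (h : FV p M ψ c) (h' : FV p M φ d) : FV p M (ψ - φ) (c - d) := by
  rw [sub_eq_add_neg, sub_eq_add_neg]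
  exact h.add h'.neg

theorem FV.zero : FV p M (0 : G → ℂ) 0 := by
  refine ⟨fun w hw g => rfl, fun _ => 0, fun χ => by rw [ip_zero, Int.cast_zero], ?_⟩
  have h : bsum M (fun _ : IrrCharacter G => (0 : ℤ)) = 0 := by
    have h1 := bsum_zsmul (M := M) 0 (fun _ : IrrCharacter G => (0 : ℤ))
    simpa using h1
  rw [h]

theorem FV.sum {ι : Type*} (s : Finset ι) {ψ : ι → G → ℂ} {c : ι → ℤ} (h : ∀ i ∈ s, FV p M (ψ i) (c i)) :
    FV p M (∑ i ∈ s, ψ i) (∑ i ∈ s, c i) := by
  classical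
  induction s using Finset.induction_on with
  | empty => simpa using FV.zero
  | insert i s hi ih =>
    rw [Finset.sum_insert hi, Finset.sum_insert hi]
    exact (h i (Finset.mem_insert_self _ _)).add (ih fun j hj => h j (Finset.mem_insert_of_mem hj))

omit [Finite G] in
/-- power maps and fixed points -/
theorem permC_pow (X : Type v) [MulAction G X] {k : ℕ} (hk : k.Coprime (Nat.card G)) (g : G) :
    permC G X (g ^ k) = permC G X g := by
  unfold permC
  have h : MulAction.fixedBy X (g ^ k) = MulAction.fixedBy X g := by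
    ext x
    rw [MulAction.mem_fixedBy, MulAction.mem_fixedBy]
    constructor
    · intro h1
      obtain ⟨j, hj⟩ := exists_pow_eq_self_of_coprime (x := g) (n := k)
        (Nat.Coprime.coprime_dvd_right (orderOf_dvd_natCard g) hk)
      have h2 : (g ^ k) ^ j ∈ MulAction.stabilizer G x := Subgroup.pow_mem _ (MulAction.mem_stabilizer_iff.2 h1) j
      rw [hj] at h2
      exact MulAction.mem_stabilizer_iff.1 h2
    · intro h1
      have h2 : g ^ k ∈ MulAction.stabilizer G x := Subgroup.pow_mem _ (MulAction.mem_stabilizer_iff.2 h1) k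
      exact MulAction.mem_stabilizer_iff.1 h2
  rw [h]

/-- **Permutation characters.** -/
theorem FV.perm [hp : Fact p.Prime] (hM : IsPModular p M) (P : Sylow p G) (X : Type v) [MulAction G X] [Finite X] :
    FV p M (permC G X) (cnt (P : Subgroup G) X) := by
  refine ⟨fun w _ g => permC_pow X (ex_coprime w) g, fun χ => mult X χ, fun χ => ?_, ?_⟩
  · rw [ip_perm, Int.cast_natCast]
  · rw [bsum_mult, Int.natCast_modEq_iff]
    exact count X hM P

/-- integer combinations of permutation characters -/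
theorem FV.comb [hp : Fact p.Prime] (hM : IsPModular p M) (P : Sylow p G) {ι : Type*} (s : Finset ι) (X : ι → Type v)
    [∀ i, MulAction G (X i)] [∀ i, Finite (X i)] (a : ι → ℤ) :
    FV p M (∑ i ∈ s, a i • permC G (X i)) (∑ i ∈ s, a i * (cnt (P : Subgroup G) (X i) : ℤ)) :=
  FV.sum s fun i _ => (FV.perm hM P (X i)).zsmul (a i)

/-- invariance of the multiplicities -/
theorem ip_pw {ψ : G → ℂ} (u : (ZMod (Nat.card G))ˣ) (hψ : ∀ g, ψ (g ^ ex u) = ψ g) (χ : IrrCharacter G) :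
    ip ψ (pw u χ : G → ℂ) = ip ψ (χ : G → ℂ) := by
  have := Fintype.ofFinite G
  rw [ip_eq, ip_eq, classInner_def, classInner_def]
  congr 1
  have hc : (Nat.card G).Coprime (ex u) := (ex_coprime u).symm
  refine Fintype.sum_equiv (powCoprime hc) _ _ fun g => ?_
  change ψ g * conj ((χ : G → ℂ) (g ^ ex u)) = ψ (g ^ ex u) * conj ((χ : G → ℂ) (g ^ ex u))
  rw [hψ]

theorem FV.inv_mult {ψ : G → ℂ} {c : ℤ} (h : FV p M ψ c) {m : IrrCharacter G → ℤ}
    (hm : ∀ χ : IrrCharacter G, ip ψ (χ : G → ℂ) = m χ) : ∀ u ∈ JJ p G, ∀ χ, m (pw u χ) = m χ := by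
  intro u hu χ
  have h1 := ip_pw u (h.inv u hu) χ
  rw [hm, hm] at h1
  exact_mod_cast h1

/-- **The F-lemma.** -/
theorem FV.sum_mem0 [hp : Fact p.Prime] {ψ : G → ℂ} {c : ℤ} (h : FV p M ψ c) {m : IrrCharacter G → ℤ}
    (hm : ∀ χ : IrrCharacter G, ip ψ (χ : G → ℂ) = m χ) : xsum p M m ≡ c [ZMOD p] := by
  obtain ⟨m', h1, h2⟩ := h.int
  have h3 : m = m' := by
    funext χ
    have h4 := (hm χ).symm.trans (h1 χ)
    exact_mod_cast h4
  subst h3
  exact (bsum_modEq_xsum m (h.inv_mult hm)).symm.trans h2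

/-- a member of `X0` with multiplicity prime to `p` -/
theorem FV.exists_mem0' [hp : Fact p.Prime] {ψ : G → ℂ} {c : ℤ} (h : FV p M ψ c) (hc : ¬ (p : ℤ) ∣ c) :
    ∃ χ : IrrCharacter G, Mem0 p M χ ∧ ∃ n : ℤ, ip ψ (χ : G → ℂ) = n ∧ ¬ (p : ℤ) ∣ n := by
  classical
  obtain ⟨m, h1, h2⟩ := h.int
  have h3 := h.sum_mem0 h1
  by_contra hcon
  push Not at hcon
  apply hc
  have h4 : (p : ℤ) ∣ xsum p M m := by
    unfold xsum
    refine Finset.dvd_sum fun χ _ => ?_
    split_ifs with h5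
    · exact Dvd.dvd.mul_right (hcon χ h5 (m χ) (h1 χ)) _
    · exact dvd_zero _
  exact (Int.ModEq.dvd_iff h3).1 h4

theorem FV.exists_mem0 [hp : Fact p.Prime] {ψ : G → ℂ} {c : ℤ} (h : FV p M ψ c) (hc : ¬ (p : ℤ) ∣ c) :
    ∃ χ : IrrCharacter G, Mem0 p M χ ∧ ip ψ (χ : G → ℂ) ≠ 0 := by
  obtain ⟨χ, h1, n, h2, h3⟩ := h.exists_mem0' hc
  refine ⟨χ, h1, ?_⟩
  rw [h2]
  intro h4
  apply h3
  have : n = 0 := by exact_mod_cast h4
  rw [this]
  exact dvd_zero _

theorem finite_mem0 : Finite {χ : IrrCharacter G // Mem0 p M χ} := by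
  have hfin : Finite (IrrCharacter G) := finite_irr
  infer_instance

/-- **The count.** Disjoint `ψ_i` with `F(ψ_i) ≠ 0`. -/
theorem le_x0 [hp : Fact p.Prime] {ι : Type*} {ψ : ι → G → ℂ} {c : ι → ℤ} (h : ∀ i, FV p M (ψ i) (c i))
    (hc : ∀ i, ¬ (p : ℤ) ∣ c i)
    (hd : ∀ i j, i ≠ j → ∀ χ : IrrCharacter G, ip (ψ i) (χ : G → ℂ) = 0 ∨ ip (ψ j) (χ : G → ℂ) = 0) :
    Nat.card ι ≤ x0 p M G := by
  have hfin := finite_mem0 (p := p) (M := M) (G := G)
  choose χ h1 h2 using fun i => (h i).exists_mem0 (hc i)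
  refine Nat.card_le_card_of_injective (fun i => (⟨χ i, h1 i⟩ : {χ : IrrCharacter G // Mem0 p M χ})) ?_
  intro i j hij
  have h3 : χ i = χ j := congrArg Subtype.val hij
  by_contra hne
  rcases hd i j hne (χ i) with h4 | h4
  · exact h2 i h4
  · rw [h3] at h4
    exact h2 j h4

/-- orthogonal characters are disjoint -/
theorem disj_of_orth {ψ φ : G → ℂ} (hψ : IsCharacter G ψ) (hφ : IsCharacter G φ) (h : ip ψ φ = 0) (χ : IrrCharacter G) :
    ip ψ (χ : G → ℂ) = 0 ∨ ip φ (χ : G → ℂ) = 0 := by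
  classical
  have := Fintype.ofFinite G
  have hfin : Finite (IrrCharacter G) := finite_irr
  let : Fintype (IrrCharacter G) := Fintype.ofFinite _
  choose a ha using fun χ : IrrCharacter G => ip_nat hψ (isIrr_isCharacter χ.2)
  obtain ⟨b, hb⟩ := exists_nat_comb hφ
  have h1 : ∀ χ : IrrCharacter G, ip φ (χ : G → ℂ) = b χ := by
    intro χ
    rw [ip_eq, hb, classInner_sum_nsmul_irr]
  have h2 : ((∑ χ : IrrCharacter G, b χ * a χ : ℕ) : ℂ) = 0 := by
    rw [← h, ip_eq]
    conv_rhs => rw [hb]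
    rw [classInner_sum_right]
    push_cast
    refine Finset.sum_congr rfl fun χ _ => ?_
    rw [← Nat.cast_smul_eq_nsmul ℂ, classInner_smul_right, map_natCast, ← ip_eq, ha]
  have h3 : ∑ χ : IrrCharacter G, b χ * a χ = 0 := by exact_mod_cast h2
  have h4 := (Finset.sum_eq_zero_iff.1 h3) χ (Finset.mem_univ _)
  rcases Nat.mul_eq_zero.1 h4 with h5 | h5
  · right
    rw [h1, h5, Nat.cast_zero]
  · left
    rw [ha, h5, Nat.cast_zero]

/-- **The count, orthogonal characters.** -/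
theorem le_x0_of_orth [hp : Fact p.Prime] {ι : Type*} {ψ : ι → G → ℂ} {c : ι → ℤ} (h : ∀ i, FV p M (ψ i) (c i))
    (hc : ∀ i, ¬ (p : ℤ) ∣ c i) (hch : ∀ i, IsCharacter G (ψ i)) (ho : ∀ i j, i ≠ j → ip (ψ i) (ψ j) = 0) :
    Nat.card ι ≤ x0 p M G :=
  le_x0 h hc fun i j hij χ => disj_of_orth (hch i) (hch j) (ho i j hij) χ

/-- the number of S4927 is at most the number of S4791 -/
theorem x0_le_xx : x0 p M G ≤ xx p G := by
  have hfin : Finite (IrrCharacter G) := finite_irr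
  refine Nat.card_le_card_of_injective
    (fun χ : {χ : IrrCharacter G // Mem0 p M χ} => (⟨χ.1, χ.2.2⟩ : {χ : IrrCharacter G //
      ¬ p ∣ charDegree (χ : G → ℂ) ∧ Alm p (χ : G → ℂ)})) ?_
  intro a b hab
  exact Subtype.ext (congrArg (fun z : {χ : IrrCharacter G // ¬ p ∣ charDegree (χ : G → ℂ) ∧ Alm p (χ : G → ℂ)} => z.1) hab)

end Cfsg.Agent.H674.XZ
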