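import Cfsg.Agent.H674.XZ.Base
import Cfsg.Agent.H736.S4790.Cyc
import Cfsg.Agent.S4633

/-!
# S4791 + S4927, cyclic Sylow subgroups, part A: the lower bound (helper674)

* `card_modEq_alm` : in a set of irreducible characters invariant under the group of exponents the number of almost `p`-rational
  members is congruent modulo `p` to the number of all members;
* `princ` : the principal block for a cyclic Sylow subgroup;
* `le_x0_cyclic` : `e + (p - 1) / e ≤ x0`.
-/

set_option autoImplicit false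

namespace Cfsg.Agent.H674.XZ

open Cfsg Cfsg.Agent.Characters Cfsg.Agent.Characters.Core Subgroup

universe u v

variable {p : ℕ} [hp : Fact p.Prime] {M : Ideal AlgInt} {G : Type u} [Group G] [Finite G]

/-- the number of almost `p`-rational members of an invariant set -/
theorem card_modEq_alm (Q : IrrCharacter G → Prop) (hQ : ∀ u ∈ JJ p G, ∀ χ, Q (pw u χ) ↔ Q χ) :
    Nat.card {χ : IrrCharacter G // Q χ} ≡ Nat.card {χ : IrrCharacter G // Q χ ∧ Alm p (χ : G → ℂ)} [MOD p] := by
  classical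
  have hfin : Finite (IrrCharacter G) := finite_irr
  let : Fintype (IrrCharacter G) := Fintype.ofFinite _
  let act0 : MulAction (ZMod (Nat.card G))ˣ (IrrCharacter G) := gact G
  have : NeZero (Nat.card G) := ⟨(Nat.card_pos (α := G)).ne'⟩
  have hsm : ∀ (u : JJ p G) (χ : IrrCharacter G), u • χ = pw u.1 χ := fun _ _ => rfl
  have h1 := sum_modEq_fixed (p := p) (A := JJ p G) (isPGroup_JJ (p := p) (G := G)) (I := IrrCharacter G)
    (fun χ => if Q χ then (1 : ℤ) else 0) (fun u χ => by
      simp only [hsm, hQ u.1 u.2])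
  have h2 : ∀ χ : IrrCharacter G, (∀ u : JJ p G, u • χ = χ) ↔ Alm p (χ : G → ℂ) := by
    intro χ
    rw [alm_iff]
    exact ⟨fun h u hu => h ⟨u, hu⟩, fun h u => h u.1 u.2⟩
  have h3 : ∀ R : IrrCharacter G → Prop, (∑ χ : IrrCharacter G, if R χ then (1 : ℤ) else 0) =
      (Nat.card {χ : IrrCharacter G // R χ} : ℤ) := by
    intro R
    rw [Nat.card_eq_fintype_card, Fintype.card_subtype, Finset.card_filter]
    push_cast
    rfl
  rw [h3] at h1
  have h4 : (∑ χ : IrrCharacter G, if ∀ u : JJ p G, u • χ = χ then (if Q χ then (1 : ℤ) else 0) else 0) =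
      (Nat.card {χ : IrrCharacter G // Q χ ∧ Alm p (χ : G → ℂ)} : ℤ) := by
    rw [← h3]
    refine Finset.sum_congr rfl fun χ _ => ?_
    have h5 := h2 χ
    by_cases ha : Alm p (χ : G → ℂ)
    · rw [if_pos (h5.2 ha)]
      simp only [ha, and_true]
    · rw [if_neg (fun h => ha (h5.1 h)), if_neg (fun h => ha h.2)]
  rw [h4] at h1
  exact Int.natCast_modEq_iff.1 h1

/-- the number of S4927 modulo `p` -/
theorem x0_modEq : Nat.card {χ : IrrCharacter G // χ ∈ principalBlock M G ∧ ¬ p ∣ charDegree (χ : G → ℂ)} ≡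
    x0 p M G [MOD p] := by
  have h1 := card_modEq_alm (p := p) (G := G) (fun χ => χ ∈ principalBlock M G ∧ ¬ p ∣ charDegree (χ : G → ℂ))
    (fun u _ χ => by rw [pw_mem_iff, charDegree_pw])
  have h2 : x0 p M G = Nat.card {χ : IrrCharacter G // (χ ∈ principalBlock M G ∧ ¬ p ∣ charDegree (χ : G → ℂ)) ∧
      Alm p (χ : G → ℂ)} := by
    unfold x0
    refine Nat.card_congr (Equiv.subtypeEquivRight fun χ => ?_)
    unfold Mem0
    rw [and_assoc]
  rw [h2]
  exact h1

/-- the number of S4791 modulo `p` -/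
theorem xx_modEq : Nat.card {χ : IrrCharacter G // ¬ p ∣ charDegree (χ : G → ℂ)} ≡ xx p G [MOD p] :=
  card_modEq_alm (p := p) (G := G) (fun χ => ¬ p ∣ charDegree (χ : G → ℂ)) (fun u _ χ => by rw [charDegree_pw])

/-- the trivial character -/
noncomputable def tr1 (G : Type u) [Group G] : IrrCharacter G := ⟨fun _ => 1, Blocks.Basic.isIrrCharacter_one⟩

theorem mem0_tr1 (hM : IsPModular p M) : Mem0 p M (tr1 G) := by
  have hMp := Cfsg.Agent.Blocks.Local.isPrime_of_isPModular hM
  refine ⟨Blocks.PrincipalSection.one_mem_principalBlock, ?_, alm_of_rat fun g => ⟨1, by simp [tr1]⟩⟩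
  have h1 : charDegree (tr1 G : G → ℂ) = 1 := by
    obtain ⟨h4, -, -⟩ := S0914.degree_spec (tr1 G)
    have h7 : ((charDegree (tr1 G : G → ℂ) : ℕ) : ℂ) = 1 := h4.symm
    exact_mod_cast h7
  rw [h1]
  exact hp.out.one_lt.ne' ∘ Nat.dvd_one.1

theorem x0_pos (hM : IsPModular p M) : 0 < x0 p M G := by
  have h1 := finite_mem0 (p := p) (M := M) (G := G)
  have : Nonempty {χ : IrrCharacter G // Mem0 p M χ} := ⟨⟨tr1 G, mem0_tr1 hM⟩⟩
  exact Nat.card_pos

/-- the exponent of the group order -/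
theorem exists_pow_card (P : Sylow p G) (hd : p ∣ Nat.card G) : ∃ a, 1 ≤ a ∧ Nat.card (P : Subgroup G) = p ^ a := by
  obtain ⟨a, ha⟩ := IsPGroup.iff_card.mp P.2
  refine ⟨a, ?_, ha⟩
  rcases Nat.eq_zero_or_pos a with h | h
  · exfalso
    have := P.pow_dvd_card_of_pow_dvd_card (n := 1) (by rwa [pow_one])
    rw [ha, h, pow_one, pow_zero] at this
    exact hp.out.one_lt.ne' (Nat.dvd_one.1 this)
  · exact h

/-- the inertial index of the principal block -/
noncomputable def ee (P : Subgroup G) : ℕ := (centralizer (P : Set G)).relIndex (normalizer (P : Set G))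

omit [Finite G] in
theorem conj_mem_centralizer {P : Subgroup G} : ∀ g : G, g ∈ normalizer (P : Set G) →
    ∀ c ∈ centralizer (P : Set G), g * c * g⁻¹ ∈ centralizer (P : Set G) := by
  intro g hg c hc
  rw [mem_centralizer_iff] at hc ⊢
  intro x hx
  have h1 : g⁻¹ * x * g ∈ P := by
    have := (mem_normalizer_iff.1 (inv_mem hg) x).1 hx
    rwa [inv_inv] at this
  have h2 := hc _ h1
  calc x * (g * c * g⁻¹) = g * ((g⁻¹ * x * g) * c) * g⁻¹ := by group
    _ = g * (c * (g⁻¹ * x * g)) * g⁻¹ := by rw [h2]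
    _ = g * c * g⁻¹ * x := by group

/-- conjugation on the centralizer -/
def conjC {P : Subgroup G} (g : G) (hg : g ∈ normalizer (P : Set G)) :
    centralizer (P : Set G) ≃* centralizer (P : Set G) where
  toFun c := ⟨g * c * g⁻¹, conj_mem_centralizer g hg c c.2⟩
  invFun c := ⟨g⁻¹ * c * (g⁻¹)⁻¹, conj_mem_centralizer g⁻¹ (inv_mem hg) c c.2⟩
  left_inv c := Subtype.ext (by change g⁻¹ * (g * c * g⁻¹) * (g⁻¹)⁻¹ = c; group)
  right_inv c := Subtype.ext (by change g * (g⁻¹ * c * (g⁻¹)⁻¹) * g⁻¹ = c; group)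
  map_mul' c d := Subtype.ext (by
    change g * (c * d) * g⁻¹ = (g * c * g⁻¹) * (g * d * g⁻¹); group)

/-- the data of the principal block of a group with a cyclic Sylow subgroup -/
theorem princ_data (hM : IsPModular p M) (P : Sylow p G) (hc : IsCyclic (P : Subgroup G)) :
    IsDefectGroup p M (principalBlock M G) (P : Subgroup G) ∧
      IsInducedBlock M (centralizer ((P : Subgroup G) : Set G))
        (principalBlock M (centralizer ((P : Subgroup G) : Set G))) (principalBlock M G) ∧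
      (P : Subgroup G) ≤ centralizer ((P : Subgroup G) : Set G) := by
  have := Fintype.ofFinite G
  have hMp := Cfsg.Agent.Blocks.Local.isPrime_of_isPModular hM
  have hPC : (P : Subgroup G) ≤ centralizer ((P : Subgroup G) : Set G) := fun x hx =>
    mem_centralizer_iff.2 fun y hy =>
      congrArg Subtype.val ((IsCyclic.commGroup (α := (P : Subgroup G))).mul_comm ⟨y, hy⟩ ⟨x, hx⟩)
  have hb : IsPBlock M (principalBlock M (centralizer ((P : Subgroup G) : Set G))) :=
    Blocks.PrincipalSection.isPBlock_principalBlock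
  have hdef : InducedBlockDefined M (centralizer ((P : Subgroup G) : Set G))
      (principalBlock M (centralizer ((P : Subgroup G) : Set G))) :=
    S0919.result p M hM (P : Subgroup G) _ P.2 hPC le_rfl (centralizer_le_normalizer _) _ hb
  exact ⟨(S4652.result p M hM _).2 ⟨P, rfl⟩, (S0936.result p M hM _ _ hdef).2 rfl, hPC⟩

/-- **The principal block.** -/
theorem princ (hM : IsPModular p M) (P : Sylow p G) (hc : IsCyclic (P : Subgroup G)) (hd : p ∣ Nat.card G) :
    ∃ a, 1 ≤ a ∧ Nat.card (P : Subgroup G) = p ^ a ∧ ee (P : Subgroup G) ∣ p - 1 ∧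
      (∀ χ ∈ principalBlock M G, ¬ p ∣ charDegree (χ : G → ℂ)) ∧
      Nat.card (principalBlock M G) = ee (P : Subgroup G) + (p ^ a - 1) / ee (P : Subgroup G) := by
  classical
  have := Fintype.ofFinite G
  have hMp := Cfsg.Agent.Blocks.Local.isPrime_of_isPModular hM
  obtain ⟨a, ha1, ha⟩ := exists_pow_card P hd
  obtain ⟨hBD, hind, -⟩ := princ_data hM P hc
  have hB : IsPBlock M (principalBlock M G) := Blocks.PrincipalSection.isPBlock_principalBlock
  have hT : ∀ g : G, g ∈ normalizer ((P : Subgroup G) : Set G) ↔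
      (g ∈ normalizer ((P : Subgroup G) : Set G) ∧
        ∀ θ ∈ principalBlock M (centralizer ((P : Subgroup G) : Set G)),
          ∀ θ' : IrrCharacter (centralizer ((P : Subgroup G) : Set G)),
            (∀ h h' : centralizer ((P : Subgroup G) : Set G), (h' : G) = g * h * g⁻¹ →
              (θ' : centralizer ((P : Subgroup G) : Set G) → ℂ) h' =
                (θ : centralizer ((P : Subgroup G) : Set G) → ℂ) h) →
            θ' ∈ principalBlock M (centralizer ((P : Subgroup G) : Set G))) := by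
    intro g
    refine ⟨fun hg => ⟨hg, fun θ hθ θ' h => ?_⟩, fun h => h.1⟩
    exact Cfsg.Agent.H736.S4790.mem_principal_of_equiv (conjC g hg) hθ fun c => h c (conjC g hg c) rfl
  obtain ⟨hep, hht, X, Y, hXY, hdis, hX, hY, -⟩ := S4696.result p M hM (P : Subgroup G) hc a ha1 ha
    (principalBlock M G) hB hBD _ hind (normalizer ((P : Subgroup G) : Set G)) hT (ee (P : Subgroup G)) rfl
  have hfin : Finite (IrrCharacter G) := finite_irr
  refine ⟨a, ha1, ha, hep, ?_, ?_⟩
  · intro χ hχ hχp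
    have h1 := hht χ hχ
    have h1B := Cfsg.Agent.Blocks.PrincipalSection.one_mem_principalBlock (K := G) (M := M)
    have h2 : sInf ((fun ψ : IrrCharacter G => (charDegree (ψ : G → ℂ)).factorization p) ''
        principalBlock M G) = 0 := by
      refine Nat.le_zero.1 (Nat.sInf_le ⟨_, h1B, ?_⟩)
      have h3 : charDegree (((⟨fun _ => 1, Cfsg.Agent.Blocks.Basic.isIrrCharacter_one⟩ :
          IrrCharacter G)) : G → ℂ) = 1 := by
        obtain ⟨h4, -, -⟩ := S0914.degree_spec (⟨fun _ => 1, Cfsg.Agent.Blocks.Basic.isIrrCharacter_one⟩ :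
          IrrCharacter G)
        have h7 : ((charDegree (((⟨fun _ => 1, Cfsg.Agent.Blocks.Basic.isIrrCharacter_one⟩ :
          IrrCharacter G)) : G → ℂ) : ℕ) : ℂ) = 1 := h4.symm
        exact_mod_cast h7
      change (charDegree (((⟨fun _ => 1, Cfsg.Agent.Blocks.Basic.isIrrCharacter_one⟩ :
          IrrCharacter G)) : G → ℂ)).factorization p = 0
      rw [h3, Nat.factorization_one]
      rfl
    unfold blockHeight at h1
    rw [h2, Nat.sub_zero] at h1
    obtain ⟨-, h5, -⟩ := S0914.degree_spec χ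
    have h6 := (hp.out.dvd_iff_one_le_factorization h5.ne').1 hχp
    omega
  · have hX' : Finite X := inferInstance
    have hY' : Finite Y := inferInstance
    rw [hXY, ← hX]
    have h1 : Nat.card ↑(X ∪ Y) = Nat.card X + Nat.card Y := by
      rw [Nat.card_coe_set_eq, Nat.card_coe_set_eq, Nat.card_coe_set_eq,
        Set.ncard_union_eq hdis (Set.toFinite _) (Set.toFinite _)]
    rw [h1, hY, ← hX]

theorem ee_pos (P : Subgroup G) : 0 < ee P := Nat.pos_of_ne_zero (by
  unfold ee relIndex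
  exact index_ne_zero_of_finite)

/-- `(p ^ a - 1) / e = (p - 1) / e` modulo `p` -/
theorem div_modEq {a e x : ℕ} (ha : 1 ≤ a) (hx : p - 1 = e * x) : (p ^ a - 1) / e ≡ x [MOD p] := by
  have hp1 := hp.out.two_le
  have he0 : 0 < e := Nat.pos_of_ne_zero fun h => by
    rw [h, zero_mul] at hx
    omega
  have h1 : p - 1 ∣ p ^ a - 1 := by
    have := Nat.sub_dvd_pow_sub_pow p 1 a
    rwa [one_pow] at this
  obtain ⟨c, hc⟩ := h1
  have h2 : (p ^ a - 1) / e = x * c := by
    rw [hc, hx, mul_assoc, Nat.mul_div_cancel_left _ he0]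
  rw [h2]
  -- `c = 1` modulo `p`
  have h3 : c ≡ 1 [MOD p] := by
    have h4 : (p - 1) * c + 1 = p ^ a := by
      rw [← hc]
      have : 1 ≤ p ^ a := Nat.one_le_pow _ _ hp.out.pos
      omega
    have h5 : (p - 1) * c + 1 ≡ 0 [MOD p] := by
      rw [h4]
      exact (Nat.modEq_zero_iff_dvd).2 (dvd_pow_self p (by omega))
    have h6 : (p - 1) * c + c = p * c := by
      obtain ⟨k, hk⟩ : ∃ k, p = k + 1 := ⟨p - 1, by omega⟩
      rw [hk, Nat.add_sub_cancel]
      ring
    have h7 : (p - 1) * c + c ≡ 0 [MOD p] := by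
      rw [h6]
      exact (Nat.modEq_zero_iff_dvd).2 (dvd_mul_right _ _)
    exact Nat.ModEq.add_left_cancel' _ (h7.trans h5.symm)
  calc x * c ≡ x * 1 [MOD p] := h3.mul_left x
    _ = x := mul_one x

/-- the number of S4927 modulo `p`, cyclic Sylow subgroups -/
theorem x0_modEq_cyclic (hM : IsPModular p M) (P : Sylow p G) (hc : IsCyclic (P : Subgroup G)) (hd : p ∣ Nat.card G)
    {x : ℕ} (hx : p - 1 = ee (P : Subgroup G) * x) : x0 p M G ≡ ee (P : Subgroup G) + x [MOD p] := by
  obtain ⟨a, ha1, -, -, hdeg, hcard⟩ := princ hM P hc hd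
  have h1 := x0_modEq (p := p) (M := M) (G := G)
  have h2 : Nat.card {χ : IrrCharacter G // χ ∈ principalBlock M G ∧ ¬ p ∣ charDegree (χ : G → ℂ)} =
      Nat.card (principalBlock M G) :=
    Nat.card_congr (Equiv.subtypeEquivRight fun χ => ⟨fun h => h.1, fun h => ⟨h, hdeg χ h⟩⟩)
  rw [h2, hcard] at h1
  exact h1.symm.trans ((div_modEq ha1 hx).add_left _)

theorem add_le_of_mul {e x : ℕ} (hx : p - 1 = e * x) : e + x ≤ p := by
  have hp1 := hp.out.two_le
  obtain ⟨k, hk⟩ : ∃ k, p = k + 1 := ⟨p - 1, by omega⟩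
  rw [hk, Nat.add_sub_cancel] at hx
  rcases Nat.eq_zero_or_pos e with h | h
  · rw [h, zero_mul] at hx
    omega
  rcases Nat.eq_zero_or_pos x with h' | h'
  · rw [h', mul_zero] at hx
    omega
  · obtain ⟨i, rfl⟩ : ∃ i, e = i + 1 := ⟨e - 1, by omega⟩
    obtain ⟨j, rfl⟩ : ∃ j, x = j + 1 := ⟨x - 1, by omega⟩
    rw [hk, hx]
    nlinarith [Nat.zero_le (i * j)]

/-- **The lower bound.** -/
theorem le_x0_cyclic (hM : IsPModular p M) (P : Sylow p G) (hc : IsCyclic (P : Subgroup G)) (hd : p ∣ Nat.card G)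
    {x : ℕ} (hx : p - 1 = ee (P : Subgroup G) * x) : ee (P : Subgroup G) + x ≤ x0 p M G := by
  have h1 := x0_modEq_cyclic hM P hc hd hx
  have h2 := add_le_of_mul hx
  have h3 := x0_pos (p := p) (M := M) (G := G) hM
  rcases Nat.eq_or_lt_of_le h2 with h4 | h4
  · rw [h4] at h1 ⊢
    exact Nat.le_of_dvd h3 ((Nat.modEq_zero_iff_dvd).1 (h1.trans (Nat.modEq_zero_iff_dvd.2 dvd_rfl)))
  · have h5 : x0 p M G % p = ee (P : Subgroup G) + x := by
      rw [← Nat.mod_eq_of_lt h4]
      exact h1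
    rw [← h5]
    exact Nat.mod_le _ _

theorem exists_x (hM : IsPModular p M) (P : Sylow p G) (hc : IsCyclic (P : Subgroup G)) (hd : p ∣ Nat.card G) :
    ∃ x, p - 1 = ee (P : Subgroup G) * x := by
  obtain ⟨-, -, -, h, -⟩ := princ hM P hc hd
  exact h

omit hp in
theorem amgm (e x : ℕ) : 4 * (e * x) ≤ (e + x) ^ 2 := by
  rcases le_total e x with h | h
  · obtain ⟨k, rfl⟩ := Nat.exists_eq_add_of_le h
    nlinarith [Nat.zero_le (k * k)]
  · obtain ⟨k, rfl⟩ := Nat.exists_eq_add_of_le h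
    nlinarith [Nat.zero_le (k * k)]

/-- **S4927 for a cyclic Sylow subgroup.** -/
theorem four_le_cyclic (hM : IsPModular p M) (P : Sylow p G) (hc : IsCyclic (P : Subgroup G)) (hd : p ∣ Nat.card G) :
    4 * (p - 1) ≤ x0 p M G ^ 2 := by
  obtain ⟨x, hx⟩ := exists_x hM P hc hd
  rw [hx]
  exact (amgm _ _).trans (Nat.pow_le_pow_left (le_x0_cyclic hM P hc hd hx) 2)

end Cfsg.Agent.H674.XZ
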