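import Cfsg.Agent.H846.RatB.Gal
import Cfsg.Agent.H685.BR.RatBasic

/-!
# S4791 + S4927, base (helper674)

* `Alm p χ` : the condition "almost `p`-rational" of the statements, literally.
* `Mem0 p M χ` : `χ` in the principal block, degree prime to `p`, almost `p`-rational; `x0 p M G` their number.
* `JJ p G` : the group of the exponents `k` modulo `|G|` with `k ≡ 1` modulo `p m'` (`m'` the `p'`-part of `|G|`): a
  `p`-group, acting on `Irr(G)` by `χ ↦ (g ↦ χ (g ^ k))` (`gact`).
* `alm_iff` : `χ` is almost `p`-rational iff it is fixed by `JJ p G`.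
* `pw_mem`, `charDegree_pw` : the action preserves the principal block and the degrees.
* `sum_fixed` : sums of invariant functions.
-/

set_option autoImplicit false

open scoped ComplexConjugate

namespace Cfsg.Agent.H674.XZ

open Cfsg
open Cfsg.Agent.Characters
open H700.PRat (zet zet_prim fix_adjoin mem_adjoin_of_forall fix_root)

universe u v

/-! ### definitions -/

/-- almost `p`-rational -/
def Alm (p : ℕ) {X : Type*} (χ : X → ℂ) : Prop :=
  ∃ n : ℕ, 0 < n ∧ ¬ p ^ 2 ∣ n ∧ ∀ g : X, χ g ∈ IntermediateField.adjoin ℚ ({Complex.exp (2 * Real.pi * Complex.I / n)} : Set ℂ)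

/-- the members of `X0` -/
def Mem0 (p : ℕ) (M : Ideal AlgInt) {G : Type u} [Group G] (χ : IrrCharacter G) : Prop :=
  χ ∈ principalBlock M G ∧ ¬ p ∣ charDegree (χ : G → ℂ) ∧ Alm p (χ : G → ℂ)

/-- the number of the members of `X0` (the number `k` of S4927) -/
noncomputable def x0 (p : ℕ) (M : Ideal AlgInt) (G : Type u) [Group G] : ℕ := Nat.card {χ : IrrCharacter G // Mem0 p M χ}

/-- the number `k` of S4791 -/
noncomputable def xx (p : ℕ) (G : Type u) [Group G] : ℕ :=
  Nat.card {χ : IrrCharacter G // ¬ p ∣ charDegree (χ : G → ℂ) ∧ Alm p (χ : G → ℂ)}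

/-! ### arithmetic -/

/-- the `p'`-part -/
noncomputable abbrev mp (p : ℕ) (G : Type u) : ℕ := ordCompl[p] (Nat.card G)

/-- the modulus -/
noncomputable def dd (p : ℕ) (G : Type u) : ℕ := Nat.gcd (Nat.card G) (p * mp p G)

theorem dd_dvd (p : ℕ) (G : Type u) : dd p G ∣ Nat.card G := Nat.gcd_dvd_left _ _

theorem dd_dvd' (p : ℕ) (G : Type u) : dd p G ∣ p * mp p G := Nat.gcd_dvd_right _ _

theorem mp_dvd_dd (p : ℕ) (G : Type u) : mp p G ∣ dd p G :=
  Nat.dvd_gcd (Nat.ordCompl_dvd _ _) (Dvd.intro_left _ rfl)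

theorem not_dvd_mp {p : ℕ} (hp : p.Prime) (G : Type u) [Finite G] [Nonempty G] : ¬ p ∣ mp p G :=
  Nat.not_dvd_ordCompl hp (Nat.card_pos (α := G)).ne'

/-- a common divisor of `|G|` and `n` divides the modulus if `p² ∤ n` -/
theorem gcd_dvd_dd {p : ℕ} (hp : p.Prime) (G : Type u) [Finite G] [Nonempty G] {n : ℕ} (hn : ¬ p ^ 2 ∣ n) :
    Nat.gcd (Nat.card G) n ∣ dd p G := by
  refine Nat.dvd_gcd (Nat.gcd_dvd_left _ _) ?_
  set e := Nat.gcd (Nat.card G) n with he
  have hN : Nat.card G ≠ 0 := (Nat.card_pos (α := G)).ne'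
  have he0 : e ≠ 0 := fun h => hN (Nat.eq_zero_of_gcd_eq_zero_left h)
  obtain ⟨b, e', he', heq⟩ := Nat.exists_eq_pow_mul_and_not_dvd he0 p hp.ne_one
  have hb : b ≤ 1 := by
    by_contra hb
    push Not at hb
    apply hn
    have h1 : p ^ 2 ∣ e := by
      rw [heq]
      exact Dvd.dvd.mul_right (pow_dvd_pow p hb) _
    exact h1.trans (Nat.gcd_dvd_right _ _)
  have h2 : e' ∣ mp p G := by
    have h3 : e' ∣ Nat.card G := (Dvd.intro_left _ heq.symm).trans (Nat.gcd_dvd_left _ _)
    have h4 := Nat.ordProj_mul_ordCompl_eq_self (Nat.card G) p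
    rw [← h4] at h3
    refine Nat.Coprime.dvd_of_dvd_mul_left ?_ h3
    exact (Nat.Coprime.pow_right _ ((Nat.Prime.coprime_iff_not_dvd hp).2 he').symm)
  rw [heq]
  refine mul_dvd_mul ?_ h2
  calc p ^ b ∣ p ^ 1 := pow_dvd_pow p hb
    _ = p := pow_one p

/-! ### the group -/

variable {p : ℕ} {G : Type u} [Group G]

/-- The group of exponents. -/
noncomputable def JJ (p : ℕ) (G : Type u) : Subgroup (ZMod (Nat.card G))ˣ := (ZMod.unitsMap (dd_dvd p G)).ker

/-- the exponent of a unit -/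
noncomputable def ex (u : (ZMod (Nat.card G))ˣ) : ℕ := (u : ZMod (Nat.card G)).val

omit [Group G] in
theorem ex_coprime [Finite G] (u : (ZMod (Nat.card G))ˣ) : (ex u).Coprime (Nat.card G) :=
  ZMod.val_coe_unit_coprime u

theorem ex_cast [Finite G] (u : (ZMod (Nat.card G))ˣ) : ((ex u : ℕ) : ZMod (Nat.card G)) = (u : ZMod (Nat.card G)) := by
  have : NeZero (Nat.card G) := ⟨(Nat.card_pos (α := G)).ne'⟩
  exact ZMod.natCast_zmod_val _

theorem pow_congr_card [Finite G] (g : G) {a b : ℕ} (h : a ≡ b [MOD Nat.card G]) : g ^ a = g ^ b := by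
  rw [pow_eq_pow_iff_modEq]
  exact h.of_dvd (orderOf_dvd_natCard g)

theorem pow_ex_one [Finite G] (g : G) : g ^ ex (1 : (ZMod (Nat.card G))ˣ) = g := by
  have h : ex (1 : (ZMod (Nat.card G))ˣ) ≡ 1 [MOD Nat.card G] := by
    rw [← ZMod.natCast_eq_natCast_iff, ex_cast, Units.val_one, Nat.cast_one]
  rw [pow_congr_card g h, pow_one]

theorem pow_ex_mul [Finite G] (u v : (ZMod (Nat.card G))ˣ) (g : G) : g ^ ex (u * v) = (g ^ ex u) ^ ex v := by
  have h : ex (u * v) ≡ ex u * ex v [MOD Nat.card G] := by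
    rw [← ZMod.natCast_eq_natCast_iff, ex_cast, Nat.cast_mul, ex_cast, ex_cast, Units.val_mul]
  rw [pow_congr_card g h, pow_mul]

/-- membership in `JJ` -/
theorem mem_JJ [Finite G] (u : (ZMod (Nat.card G))ˣ) : u ∈ JJ p G ↔ ex u ≡ 1 [MOD dd p G] := by
  unfold JJ
  rw [MonoidHom.mem_ker, ← ZMod.natCast_eq_natCast_iff, Units.ext_iff, ZMod.unitsMap_def, Units.coe_map, Units.val_one,
    Nat.cast_one, MonoidHom.coe_coe, ← ex_cast, map_natCast]

theorem isPGroup_JJ [hp : Fact p.Prime] [Finite G] : IsPGroup p (JJ p G) := by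
  intro u
  refine ⟨(Nat.card G).factorization p, ?_⟩
  set a := (Nat.card G).factorization p with ha
  have h1 := (mem_JJ (p := p) u.1).1 u.2
  have h2 : ex u.1 ≡ 1 [MOD mp p G] := h1.of_dvd (mp_dvd_dd p G)
  have h3 : (ex u.1) ^ (p ^ a) ≡ 1 [MOD mp p G] := by
    have := h2.pow (p ^ a)
    rwa [one_pow] at this
  have h4 : (ex u.1) ^ (p ^ a) ≡ 1 [MOD p ^ a] := by
    rcases Nat.eq_zero_or_pos a with h0 | h0
    · rw [h0, pow_zero]
      exact Nat.modEq_one
    · have hpd : p ∣ dd p G := by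
        refine Nat.dvd_gcd ?_ (Dvd.intro _ rfl)
        exact Nat.dvd_of_factorization_pos (by rw [← ha]; exact h0.ne')
      have h5 : ex u.1 ≡ 1 [MOD p] := h1.of_dvd hpd
      have h6 : ((p : ℕ) : ℤ) ∣ (ex u.1 : ℤ) - 1 := by
        have := (Nat.modEq_iff_dvd).1 h5.symm
        exact_mod_cast this
      have h7 := dvd_sub_pow_of_dvd_sub h6 a
      rw [one_pow] at h7
      have h8 : ((p ^ a : ℕ) : ℤ) ∣ ((ex u.1 ^ p ^ a : ℕ) : ℤ) - ((1 : ℕ) : ℤ) := by
        push_cast
        exact (pow_dvd_pow _ (Nat.le_succ a)).trans h7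
      exact ((Nat.modEq_iff_dvd).2 h8).symm
  have h5 : (ex u.1) ^ (p ^ a) ≡ 1 [MOD Nat.card G] := by
    have h6 := Nat.ordProj_mul_ordCompl_eq_self (Nat.card G) p
    have h7 : (ex u.1) ^ (p ^ a) ≡ 1 [MOD p ^ a * mp p G] := by
      refine (Nat.modEq_and_modEq_iff_modEq_mul ?_).1 ⟨h4, h3⟩
      exact Nat.Coprime.pow_left _ ((Nat.Prime.coprime_iff_not_dvd hp.out).2 (not_dvd_mp hp.out G))
    have h8 : p ^ a * mp p G = Nat.card G := h6
    exact h7.of_dvd (Dvd.intro_left 1 (by rw [one_mul, h8]))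
  apply Subtype.ext
  apply Units.ext
  rw [Subgroup.coe_pow, Units.val_pow_eq_pow_val, Subgroup.coe_one, Units.val_one, ← ex_cast, ← Nat.cast_pow]
  have h6 := (ZMod.natCast_eq_natCast_iff _ _ _).2 h5
  rw [h6, Nat.cast_one]

/-! ### the action -/

/-- `χ ∘ (g ↦ g ^ k)` -/
noncomputable def pw [Finite G] (u : (ZMod (Nat.card G))ˣ) (χ : IrrCharacter G) : IrrCharacter G :=
  ⟨fun g => (χ : G → ℂ) (g ^ ex u), GaloisIrr.isIrr_pow (ex_coprime u) χ.2⟩

theorem pw_apply [Finite G] (u : (ZMod (Nat.card G))ˣ) (χ : IrrCharacter G) (g : G) :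
    (pw u χ : G → ℂ) g = (χ : G → ℂ) (g ^ ex u) := rfl

/-- the action of all the units on the irreducible characters -/
@[instance_reducible]
noncomputable def gact (G : Type u) [Group G] [Finite G] : MulAction (ZMod (Nat.card G))ˣ (IrrCharacter G) where
  smul u χ := pw u χ
  one_smul χ := Subtype.ext (by
    funext g
    change (χ : G → ℂ) (g ^ ex (1 : (ZMod (Nat.card G))ˣ)) = _
    rw [pow_ex_one])
  mul_smul u v χ := Subtype.ext (by
    funext g
    change (χ : G → ℂ) (g ^ ex (u * v)) = (χ : G → ℂ) ((g ^ ex u) ^ ex v)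
    rw [pow_ex_mul])

/-- each unit acts as a field automorphism -/
theorem exists_aut [Finite G] (u : (ZMod (Nat.card G))ˣ) :
    ∃ σ : ℂ ≃+* ℂ, ∀ ψ : G → ℂ, IsCharacter G ψ → ∀ g, σ (ψ g) = ψ (g ^ ex u) :=
  GaloisBasic.exists_ringEquiv_of_coprime (ex_coprime u)

theorem pw_eq_galc [Finite G] (u : (ZMod (Nat.card G))ˣ) :
    ∃ σ : ℂ ≃+* ℂ, (∀ ψ : G → ℂ, IsCharacter G ψ → ∀ g, σ (ψ g) = ψ (g ^ ex u)) ∧
      ∀ χ : IrrCharacter G, pw u χ = H685.BR.galc σ χ := by
  obtain ⟨σ, hσ⟩ := exists_aut u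
  exact ⟨σ, hσ, fun χ => Subtype.ext (funext fun g => (hσ _ (Blocks.Basic.irr_isCharacter χ.2) g).symm)⟩

/-- The action preserves the principal block. -/
theorem pw_mem [Finite G] {M : Ideal AlgInt} (u : (ZMod (Nat.card G))ˣ) {χ : IrrCharacter G}
    (h : χ ∈ principalBlock M G) : pw u χ ∈ principalBlock M G := by
  obtain ⟨σ, -, hσ⟩ := pw_eq_galc u
  rw [hσ]
  exact H685.BR.galc_mem σ h

theorem pw_mem_iff [Finite G] {M : Ideal AlgInt} (u : (ZMod (Nat.card G))ˣ) {χ : IrrCharacter G} :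
    pw u χ ∈ principalBlock M G ↔ χ ∈ principalBlock M G := by
  refine ⟨fun h => ?_, pw_mem u⟩
  have h1 := pw_mem u⁻¹ h
  let := gact G
  have h2 : pw u⁻¹ (pw u χ) = χ := inv_smul_smul u χ
  rwa [h2] at h1

theorem charDegree_pw [Finite G] (u : (ZMod (Nat.card G))ˣ) (χ : IrrCharacter G) :
    charDegree (pw u χ : G → ℂ) = charDegree (χ : G → ℂ) := by
  unfold charDegree
  rw [pw_apply, one_pow]

theorem pw_eq_iff [Finite G] (u : (ZMod (Nat.card G))ˣ) (χ : IrrCharacter G) :
    pw u χ = χ ↔ ∀ g : G, (χ : G → ℂ) (g ^ ex u) = (χ : G → ℂ) g := by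
  constructor
  · intro e g
    rw [← pw_apply, e]
  · intro e
    exact Subtype.ext (funext e)

/-! ### almost `p`-rational characters -/

/-- general version, for characters -/
theorem alm_iff_fun [hp : Fact p.Prime] [Finite G] {χ : G → ℂ} (hχ : IsCharacter G χ) :
    Alm p χ ↔ ∀ u ∈ JJ p G, ∀ g : G, χ (g ^ ex u) = χ g := by
  constructor
  · rintro ⟨n, hn0, hn, h⟩ u hu g
    have h1 := (mem_JJ (p := p) u).1 hu
    have h2 : ex u ≡ 1 [MOD Nat.gcd (Nat.card G) n] := h1.of_dvd (gcd_dvd_dd hp.out G hn)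
    obtain ⟨k, hk1, hk2⟩ := Nat.chineseRemainder' h2
    have hkN : k.Coprime (Nat.card G) := by
      have h3 := hk1.gcd_eq
      rw [Nat.Coprime, h3]
      exact ex_coprime u
    have hkn : k.Coprime n := by
      have h3 := hk2.gcd_eq
      rw [Nat.Coprime, h3, Nat.gcd_one_left]
    have hne : Nat.card G * n ≠ 0 := mul_ne_zero (Nat.card_pos (α := G)).ne' hn0.ne'
    obtain ⟨τ, hτ⟩ := GaloisBasic.exists_ringEquiv_pow hne (hkN.mul_right hkn)
    have h3 : τ (zet n) = zet n := by
      rw [hτ _ (by rw [mul_comm, pow_mul, (zet_prim hn0.ne').pow_eq_one, one_pow]),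
        H700.PRat.pow_congr (zet_prim hn0.ne').pow_eq_one hk2, pow_one]
    have h4 : τ (χ g) = χ g := fix_adjoin τ h3 (h g)
    have h5 : τ (χ g) = χ (g ^ k) := GaloisBasic.map_apply_card τ (fun z hz => hτ z (by rw [pow_mul, hz, one_pow])) hχ g
    rw [← pow_congr_card g hk1, ← h5, h4]
  · intro h
    have hm0 : mp p G ≠ 0 := fun h0 => not_dvd_mp hp.out G (h0 ▸ dvd_zero p)
    have hpm : p * mp p G ≠ 0 := mul_ne_zero hp.out.ne_zero hm0
    refine ⟨p * mp p G, Nat.pos_of_ne_zero hpm, fun h1 => ?_, fun g => ?_⟩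
    · rw [sq] at h1
      exact not_dvd_mp hp.out G (Nat.dvd_of_mul_dvd_mul_left hp.out.pos h1)
    · refine mem_adjoin_of_forall (H846.RatB.integral_irr hχ g) fun σ hσ => ?_
      have hN : Nat.card G ≠ 0 := (Nat.card_pos (α := G)).ne'
      obtain ⟨k, hk, hk1⟩ := GaloisBasic.exists_coprime_pow (σ : ℂ →+* ℂ) hN
      have hdd0 : dd p G ≠ 0 := fun h0 => hN (Nat.eq_zero_of_gcd_eq_zero_left h0)
      have h2 : σ (zet (dd p G)) = zet (dd p G) :=
        fix_root hpm σ hσ (dd_dvd' p G) (zet_prim hdd0).pow_eq_one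
      have h3 : zet (dd p G) ^ k = zet (dd p G) := by
        rw [← h2, ← map_pow]
        have h4 := hk1 (zet (dd p G)) (by
          obtain ⟨c, hc⟩ := dd_dvd p G
          rw [hc, pow_mul, (zet_prim hdd0).pow_eq_one, one_pow])
        have h5 : σ (zet (dd p G)) = zet (dd p G) ^ k := h4
        rw [map_pow, h2, ← h5, h2]
      have h4 : k ≡ 1 [MOD dd p G] := by
        have h5 : zet (dd p G) ^ k = zet (dd p G) ^ 1 := by rw [pow_one, h3]
        have h6 : IsOfFinOrder (zet (dd p G)) :=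
          isOfFinOrder_iff_pow_eq_one.2 ⟨dd p G, Nat.pos_of_ne_zero hdd0, (zet_prim hdd0).pow_eq_one⟩
        have h7 := h6.pow_eq_pow_iff_modEq.1 h5
        rwa [← (zet_prim hdd0).eq_orderOf] at h7
      let u : (ZMod (Nat.card G))ˣ := ZMod.unitOfCoprime k hk
      have h5 : ex u ≡ k [MOD Nat.card G] := by
        rw [← ZMod.natCast_eq_natCast_iff, ex_cast]
        rfl
      have h6 : u ∈ JJ p G := (mem_JJ u).2 ((h5.of_dvd (dd_dvd p G)).trans h4)
      have h7 : σ (χ g) = χ (g ^ k) := GaloisBasic.map_apply_card σ hk1 hχ g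
      rw [h7, ← pow_congr_card g h5]
      exact h u h6 g

theorem alm_iff [hp : Fact p.Prime] [Finite G] (χ : IrrCharacter G) :
    Alm p (χ : G → ℂ) ↔ ∀ u ∈ JJ p G, pw u χ = χ := by
  rw [alm_iff_fun (Blocks.Basic.irr_isCharacter χ.2)]
  exact forall₂_congr fun u _ => (pw_eq_iff u χ).symm

/-- rational valued functions -/
theorem alm_of_rat [hp : Fact p.Prime] {X : Type*} {χ : X → ℂ} (h : ∀ g, ∃ q : ℚ, χ g = (q : ℂ)) : Alm p χ := by
  refine ⟨1, one_pos, fun h1 => ?_, fun g => ?_⟩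
  · have := (Nat.dvd_one.1 h1)
    rw [Nat.pow_eq_one] at this
    rcases this with h2 | h2
    · exact hp.out.ne_one h2
    · exact absurd h2 (by norm_num)
  · obtain ⟨q, hq⟩ := h g
    rw [hq]
    exact (IntermediateField.adjoin ℚ _).algebraMap_mem q

/-! ### sums of invariant functions -/

/-- a `p`-group acting on a finite set, an invariant function with values in `ℤ`: the sum is congruent modulo `p` to the sum over the
fixed points -/
theorem sum_modEq_fixed {p : ℕ} [hp : Fact p.Prime] {A : Type*} [Group A] [Finite A] (hA : IsPGroup p A) {I : Type*}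
    [Fintype I] [MulAction A I] (f : I → ℤ) (hf : ∀ (a : A) (i : I), f (a • i) = f i) [DecidablePred fun i : I => ∀ a : A, a • i = i] :
    ∑ i, f i ≡ ∑ i, (if ∀ a : A, a • i = i then f i else 0) [ZMOD p] := by
  classical
  rw [Int.modEq_iff_dvd, ← Finset.sum_sub_distrib]
  have h0 : ∀ i, ((if ∀ a : A, a • i = i then f i else 0) - f i) = (if ∀ a : A, a • i = i then 0 else - f i) := by
    intro i
    split_ifs <;> ring
  rw [Finset.sum_congr rfl fun i _ => h0 i]
  rw [← Finset.sum_fiberwise_of_maps_to (s := Finset.univ) (t := Finset.univ)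
    (g := fun i => (Quotient.mk (MulAction.orbitRel A I) i)) (fun i _ => Finset.mem_univ _)]
  refine Finset.dvd_sum fun q _ => ?_
  induction q using Quotient.inductionOn with
  | h j =>
    have h1 : ∀ i ∈ Finset.univ.filter (fun i => (Quotient.mk (MulAction.orbitRel A I) i) = Quotient.mk _ j),
        (if ∀ a : A, a • i = i then (0 : ℤ) else - f i) = (if ∀ a : A, a • j = j then (0 : ℤ) else - f j) := by
      intro i hi
      rw [Finset.mem_filter] at hi
      obtain ⟨a, rfl⟩ := MulAction.orbitRel_apply.1 (Quotient.exact hi.2)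
      change (if ∀ b : A, b • a • j = a • j then (0 : ℤ) else - f (a • j)) = _
      rw [hf]
      have h2 : (∀ b : A, b • a • j = a • j) ↔ ∀ b : A, b • j = j := by
        constructor
        · intro h b
          have h3 := h (a * b * a⁻¹)
          rw [← mul_smul, inv_mul_cancel_right, mul_smul] at h3
          exact (MulAction.injective a) h3
        · intro h b
          rw [h a, h b]
      simp only [h2]
    rw [Finset.sum_congr rfl h1, Finset.sum_const, nsmul_eq_mul]
    split_ifs with h3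
    · rw [mul_zero]
      exact dvd_zero _
    · have h4 : (Finset.univ.filter (fun i => (Quotient.mk (MulAction.orbitRel A I) i) = Quotient.mk _ j)).card =
          Nat.card (MulAction.orbit A j) := by
        rw [Nat.card_eq_fintype_card, ← Set.toFinset_card]
        congr 1
        ext i
        rw [Finset.mem_filter, Set.mem_toFinset]
        constructor
        · intro h
          exact MulAction.orbitRel_apply.1 (Quotient.exact h.2)
        · intro h
          exact ⟨Finset.mem_univ _, Quotient.sound (MulAction.orbitRel_apply.2 h)⟩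
      have h5 : p ∣ Nat.card (MulAction.orbit A j) := by
        obtain ⟨n, hn⟩ := hA.card_orbit j
        rw [hn]
        rcases Nat.eq_zero_or_pos n with h6 | h6
        · exfalso
          rw [h6, pow_zero] at hn
          apply h3
          intro a
          have h7 := Nat.card_eq_one_iff_unique.1 hn
          have := h7.1
          exact congrArg Subtype.val (Subsingleton.elim (⟨a • j, MulAction.mem_orbit j a⟩ : MulAction.orbit A j)
            ⟨j, MulAction.mem_orbit_self j⟩)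
        · exact dvd_pow_self p h6.ne'
      rw [h4]
      exact Dvd.dvd.mul_right (by exact_mod_cast h5) _

end Cfsg.Agent.H674.XZ
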