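import Mathlib

/-!
# S4791 + S4927, linear primes: the number of good nodes (helper674)

`tt p w j = ∑_{i ≤ j} C(w, i) (-2)^i` in `ZMod p`.

* `p_le_card` : `p ≤ w` : at least `p` numbers `j < w` with `tt p w j ≠ 0`;
* `two_le_card` : `2 ≤ w`, `p ≥ 5` : at least two.
-/

set_option autoImplicit false

namespace Cfsg.Agent.H674.XZ

open Finset

variable (p : ℕ) [hp : Fact p.Prime]

/-- the partial sums -/
def tt (w j : ℕ) : ZMod p := ∑ i ∈ range (j + 1), (w.choose i : ZMod p) * (-2) ^ i

theorem tt_zero (w : ℕ) : tt p w 0 = 1 := by simp [tt]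

theorem tt_succ (w j : ℕ) : tt p w (j + 1) = tt p w j + (w.choose (j + 1) : ZMod p) * (-2) ^ (j + 1) := by
  unfold tt
  rw [sum_range_succ]

theorem choose_lt {w i : ℕ} (hi : i < p) : (w.choose i : ZMod p) = ((w % p).choose i : ZMod p) := by
  have h := (Choose.choose_modEq_choose_mod_mul_choose_div_nat (n := w) (k := i) (p := p))
  rw [Nat.mod_eq_of_lt hi, Nat.div_eq_of_lt hi, Nat.choose_zero_right, mul_one] at h
  exact (ZMod.natCast_eq_natCast_iff _ _ _).2 h

theorem choose_add {w i : ℕ} (hi : i < p) : (w.choose (p + i) : ZMod p) = ((w % p).choose i : ZMod p) * (w / p : ℕ) := by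
  have h := (Choose.choose_modEq_choose_mod_mul_choose_div_nat (n := w) (k := p + i) (p := p))
  rw [Nat.add_mod_left, Nat.mod_eq_of_lt hi, Nat.add_div_left _ hp.out.pos, Nat.div_eq_of_lt hi, Nat.choose_one_right] at h
  rw [← Nat.cast_mul]
  exact (ZMod.natCast_eq_natCast_iff _ _ _).2 h

/-- the first block -/
theorem tt_lt {w j : ℕ} (hj : j < p) : tt p w j = tt p (w % p) j := by
  unfold tt
  refine sum_congr rfl fun i hi => ?_
  rw [choose_lt p (lt_of_lt_of_le (mem_range.1 hi) hj)]

/-- the value at the end -/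
theorem tt_end {w j : ℕ} (hj : w ≤ j) : tt p w j = (-1) ^ w := by
  unfold tt
  have h1 : ∀ i, (w.choose i : ZMod p) * (-2) ^ i = (-2) ^ i * 1 ^ (w - i) * (w.choose i : ZMod p) := fun i => by
    rw [one_pow, mul_one, mul_comm]
  rw [sum_congr rfl fun i _ => h1 i]
  have h2 : ∑ i ∈ range (w + 1), (-2 : ZMod p) ^ i * 1 ^ (w - i) * (w.choose i : ZMod p) = (-2 + 1) ^ w := (add_pow _ _ _).symm
  have h3 : ∑ i ∈ range (j + 1), (-2 : ZMod p) ^ i * 1 ^ (w - i) * (w.choose i : ZMod p) =
      ∑ i ∈ range (w + 1), (-2 : ZMod p) ^ i * 1 ^ (w - i) * (w.choose i : ZMod p) := by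
    symm
    refine sum_subset (fun i hi => mem_range.2 (by have := mem_range.1 hi; omega)) fun i _ hi => ?_
    rw [Nat.choose_eq_zero_of_lt (by rw [mem_range] at hi; omega), Nat.cast_zero, mul_zero]
  rw [h3, h2]
  norm_num

/-- the second block -/
theorem tt_add {w j : ℕ} (hj : j < p) : tt p w (p + j) = (-1) ^ (w % p) + (w / p : ℕ) * (-2) * tt p (w % p) j := by
  have h1 : tt p w (p + j) = ∑ i ∈ range p, (w.choose i : ZMod p) * (-2) ^ i +
      ∑ i ∈ range (j + 1), (w.choose (p + i) : ZMod p) * (-2) ^ (p + i) := by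
    unfold tt
    rw [add_assoc, sum_range_add]
  have hp1 := hp.out.pos
  have h2 : ∑ i ∈ range p, (w.choose i : ZMod p) * (-2) ^ i = tt p w (p - 1) := by
    unfold tt
    rw [Nat.sub_add_cancel hp1]
  have h3 := Nat.mod_lt w hp1
  rw [h1, h2, tt_lt p (by omega), tt_end p (by omega)]
  congr 1
  unfold tt
  rw [mul_sum]
  refine sum_congr rfl fun i hi => ?_
  rw [choose_add p (lt_of_lt_of_le (mem_range.1 hi) hj), pow_add, ZMod.pow_card]
  ring

theorem neg_one_pow_ne {k : ℕ} : ((-1 : ZMod p)) ^ k ≠ 0 := pow_ne_zero _ (neg_ne_zero.2 one_ne_zero)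

open scoped Classical in
/-- **`w ≥ p`** -/
theorem p_le_card {w : ℕ} (hw : p ≤ w) : p ≤ ((range w).filter fun j => tt p w j ≠ 0).card := by
  have hp1 := hp.out.pos
  have key : ∀ i : Fin p, ∃ j, j % p = i ∧ j < w ∧ tt p w j ≠ 0 := by
    intro i
    by_cases h0 : tt p w i = 0
    · have h1 : (i : ℕ) < w % p := by
        by_contra h1
        rw [tt_lt p i.2, tt_end p (by omega)] at h0
        exact neg_one_pow_ne p h0
      refine ⟨p + i, by rw [Nat.add_mod_left, Nat.mod_eq_of_lt i.2], ?_, ?_⟩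
      · have h2 := Nat.div_add_mod w p
        have h3 : 1 ≤ w / p := Nat.div_pos hw hp1
        have h4 : p ≤ p * (w / p) := Nat.le_mul_of_pos_right _ h3
        omega
      · rw [tt_add p i.2, ← tt_lt p i.2, h0, mul_zero, add_zero]
        exact neg_one_pow_ne p
    · exact ⟨i, Nat.mod_eq_of_lt i.2, i.2.trans_le hw, h0⟩
  choose f h1 h2 h3 using key
  have h4 := Finset.card_le_card_of_injOn (s := (Finset.univ : Finset (Fin p)))
    (t := (range w).filter fun j => tt p w j ≠ 0) f (fun i _ => by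
      rw [Finset.mem_coe, mem_filter]
      exact ⟨mem_range.2 (h2 i), h3 i⟩) (fun i _ j _ hij => Fin.ext (by rw [← h1 i, ← h1 j, hij]))
  rwa [Finset.card_univ, Fintype.card_fin] at h4

open scoped Classical in
/-- **`w ≥ 2`** -/
theorem two_le_card (h5 : 5 ≤ p) {w : ℕ} (hw : 2 ≤ w) : 2 ≤ ((range w).filter fun j => tt p w j ≠ 0).card := by
  have key : ∃ j, 0 < j ∧ j < w ∧ tt p w j ≠ 0 := by
    by_cases h1 : tt p w 1 = 0
    · have h1' : (1 : ZMod p) + w * (-2) = 0 := by
        have h2 := tt_succ p w 0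
        rw [zero_add, h1, tt_zero, Nat.choose_one_right, pow_one] at h2
        exact h2.symm
      have h3 : 3 ≤ w := by
        by_contra hcon
        have h4 : w = 2 := by omega
        subst h4
        have h5' : ((3 : ℕ) : ZMod p) = 0 := by
          have h6 : (1 : ZMod p) + ((2 : ℕ) : ZMod p) * (-2) = -((3 : ℕ) : ZMod p) := by
            push_cast
            ring
          rw [h6, neg_eq_zero] at h1'
          exact h1'
        rw [ZMod.natCast_eq_zero_iff] at h5'
        have := Nat.le_of_dvd (by norm_num) h5'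
        omega
      refine ⟨2, by norm_num, by omega, ?_⟩
      intro h2
      have h4 := tt_succ p w 1
      rw [h1, h2, zero_add] at h4
      have h6 : ((w.choose 2 : ℕ) : ZMod p) * 2 = (w : ZMod p) * ((w : ZMod p) - 1) := by
        have h7 := Nat.choose_two_right w
        have h8 : w.choose 2 * 2 = w * (w - 1) := by
          rw [h7]
          exact Nat.div_mul_cancel (Nat.even_mul_pred_self w).two_dvd
        have h9 : ((w.choose 2 * 2 : ℕ) : ZMod p) = ((w * (w - 1) : ℕ) : ZMod p) := by rw [h8]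
        push_cast [Nat.cast_sub (show 1 ≤ w by omega)] at h9
        exact h9
      -- `2 w = 1`, `0 = 2 * (choose * 2) = 2 w (w - 1) = w - 1`
      have h7 : (w : ZMod p) - 1 = 0 := by
        have h8 : (w : ZMod p) * 2 = 1 := by linear_combination -h1'
        have h9 : (0 : ZMod p) = 2 * (((w.choose 2 : ℕ) : ZMod p) * 2) := by
          rw [h4]
          ring
        rw [h6] at h9
        have h10 : (2 : ZMod p) * ((w : ZMod p) * ((w : ZMod p) - 1)) = ((w : ZMod p) * 2) * ((w : ZMod p) - 1) := by ring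
        rw [h10, h8, one_mul] at h9
        exact h9.symm
      have h8 : (1 : ZMod p) = 0 := by
        have h9 : (w : ZMod p) = 1 := sub_eq_zero.1 h7
        rw [h9] at h1'
        have h10 : (1 : ZMod p) + 1 * (-2) = -1 := by ring
        rw [h10, neg_eq_zero] at h1'
        exact h1'
      exact one_ne_zero h8
    · exact ⟨1, one_pos, by omega, h1⟩
  obtain ⟨j, h1, h2, h3⟩ := key
  have h4 : ({0, j} : Finset ℕ) ⊆ (range w).filter fun j => tt p w j ≠ 0 := by
    intro i hi
    rw [mem_insert, mem_singleton] at hi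
    rw [mem_filter, mem_range]
    rcases hi with rfl | rfl
    · rw [tt_zero]
      exact ⟨by omega, one_ne_zero⟩
    · exact ⟨h2, h3⟩
  have h5' := Finset.card_le_card h4
  rwa [Finset.card_pair h1.ne] at h5'

end Cfsg.Agent.H674.XZ
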