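import Cfsg.Agent.H967.XZ.FBeta
import Cfsg.Agent.H26.XZ.Gal
import Cfsg.Agent.H965.XZ.IdxB
import Cfsg.Agent.H319.PQ.Cosets
import Cfsg.Agent.H211.Dl.Perm
import Cfsg.Agent.H705.Dl.PsRgd

/-!
# S4791 + S4927, classical groups of relative type `B_m` : families and orbits (helper674)

`Y` a group with an RGD of type `B_m`; `beta a` the rank-selected character of the nodes `≥ a` (`a ≤ m`).

* `GdC a` : the functional `F` of `beta a` is not `0` modulo `p`;
* `exists_mem` : different members of `X0(Y)`, constituents of the permutation character on the cosets of `B`;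
* `card_le_x0`, `card_le_x0_forms` : the number of good `a`, and invariant forms;
* `gd_of_dvd` : the elliptic case.
-/

set_option autoImplicit false
set_option linter.unusedSectionVars false

open Cfsg

namespace Cfsg.Agent.H674.XZ

open CoxeterSystem Cfsg.Agent.ChevalleyStructure.CoxeterGeom Cfsg.Agent.Tits.Roots Cfsg.Agent.Tits.Core
  Cfsg.Agent.Nodes.Reps Cfsg.Agent.Nodes.BNOf Cfsg.Agent.Nodes.StabComb Cfsg.Agent.Nodes.Comb
  Cfsg.Agent.Nodes.Bruhat Cfsg.Agent.Nodes.OppDec Cfsg.Agent.Nodes.LeviDec Cfsg.Agent.Characters.Core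
  Cfsg.Agent.H796.BR Cfsg.Agent.H145.BR Cfsg.Agent.H967.XZ Cfsg.Agent.H603.AP
open scoped ComplexConjugate

universe u

variable {m : ℕ} {W : Type*} [Group W] [Finite W] {Y : Type u} [Group Y] [Finite Y]
  {cs : CoxeterSystem (CoxeterMatrix.B m) W} {A : Fin m → Fin m → ℤ} {h : IsCartan (CoxeterMatrix.B m) A} {r p : ℕ}
  {T : Subgroup Y} {n : Fin m → Y} {X : (Fin m → ℤ) → Subgroup Y} {M : Ideal AlgInt}

/-- `a` is good -/
def GdC (p : ℕ) (M : Ideal AlgInt) (cs : CoxeterSystem (CoxeterMatrix.B m) W) (h : IsCartan (CoxeterMatrix.B m) A)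
    (T : Subgroup Y) (X : (Fin m → ℤ) → Subgroup Y) (a : ℕ) : Prop :=
  ∃ c : ℤ, FV p M (betaPJ cs h T X (ge a)) c ∧ ¬ (p : ℤ) ∣ c

variable (R : RGD cs h r T n X)

/-- a combination of the permutation characters of the `P_J` is stable under all power maps prime to `|Y|` -/
theorem betaPJ_stable (S : Finset (Fin m)) (u : (ZMod (Nat.card Y))ˣ) (g : Y) :
    betaPJ cs h T X S (g ^ ex u) = betaPJ cs h T X S g := by
  rw [betaPJ_eq_comb]
  exact Cfsg.Agent.H26.XZ.comb_stable _ (fun L : Finset (Fin m) => Y ⧸ PJ cs h T X ((Sᶜ ∪ L : Finset (Fin m)) : Set (Fin m)))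
    _ u g

/-- constituents of the permutation character on the cosets of a larger subgroup -/
theorem ip_perm_mono {H K : Subgroup Y} (hHK : H ≤ K) {χ : IrrCharacter Y} (h1 : ip (permC Y (Y ⧸ K)) (χ : Y → ℂ) ≠ 0) :
    ip (permC Y (Y ⧸ H)) (χ : Y → ℂ) ≠ 0 := by
  have := Fintype.ofFinite Y
  have e : ∀ L : Subgroup Y, ip (permC Y (Y ⧸ L)) (χ : Y → ℂ) = H319.PQ.mu L (χ : Y → ℂ) := by
    intro L
    rw [ip_eq]
    exact H319.PQ.classInner_cosets L χ
  rw [e] at h1 ⊢
  unfold H319.PQ.mu at h1 ⊢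
  have h2 : (Nat.card H : ℂ) ≠ 0 := by exact_mod_cast Nat.card_pos.ne'
  exact mul_ne_zero (inv_ne_zero h2)
    (H211.Dl.sum_ne_zero_of_le (isIrr_isCharacter χ.2) hHK (right_ne_zero_of_mul h1))

include R in
/-- the constituents of the rank-selected characters are constituents of the permutation character on `Y / B` -/
theorem perm_ne_zero (hG : GG cs h T X = ⊤) {S : Finset (Fin m)} {χ : IrrCharacter Y}
    (h1 : ip (betaPJ cs h T X S) (χ : Y → ℂ) ≠ 0) : ip (permC Y (Y ⧸ RGD.B cs h T X)) (χ : Y → ℂ) ≠ 0 := by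
  classical
  intro h0
  apply h1
  have := Fintype.ofFinite Y
  have key : ∀ J : Set (Fin m), ip (permC Y (Y ⧸ PJ cs h T X J)) (χ : Y → ℂ) = 0 := by
    intro J
    by_contra hne
    have hle : RGD.B cs h T X ≤ PJ cs h T X J := by
      rw [← H705.Dl.PsRgd.PJ_empty (cs := cs) (h := h) (T := T) (X := X) R]
      exact PJ_mono' R hG (Set.empty_subset _)
    exact ip_perm_mono hle hne h0
  rw [betaPJ_eq_comb, ip_eq, classInner_sum_left]
  refine Finset.sum_eq_zero fun L _ => ?_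
  rw [← Int.cast_smul_eq_zsmul ℂ, classInner_smul_left, ← ip_eq, key, mul_zero]

include R in
/-- disjointness -/
theorem beta_disj (hG : GG cs h T X = ⊤) {a b : ℕ} (ha : a ≤ m) (hb : b ≤ m) (hab : a ≠ b) (χ : IrrCharacter Y) :
    ip (betaPJ cs h T X (ge a)) (χ : Y → ℂ) = 0 ∨ ip (betaPJ cs h T X (ge b)) (χ : Y → ℂ) = 0 := by
  have := Fintype.ofFinite Y
  rw [ip_eq, ip_eq]
  rcases lt_or_gt_of_ne hab with h2 | h2
  · by_cases h1 : classInner (betaPJ cs h T X (ge b)) (χ : Y → ℂ) = 0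
    · exact Or.inr h1
    · exact Or.inl (beta_disjoint R hG (not_C cs h2 (by omega)) χ.2 h1)
  · by_cases h1 : classInner (betaPJ cs h T X (ge a)) (χ : Y → ℂ) = 0
    · exact Or.inl h1
    · exact Or.inr (beta_disjoint R hG (not_C cs h2 (by omega)) χ.2 h1)

section main

variable [hp : Fact p.Prime]

include R in
/-- **different members of `X0`**, constituents of the permutation character on `Y / B` -/
theorem exists_mem (hG : GG cs h T X = ⊤) {s : Finset ℕ} (hs : ∀ a ∈ s, a ≤ m ∧ GdC p M cs h T X a) :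
    ∃ θ : s → IrrCharacter Y, Function.Injective θ ∧ ∀ a, Mem0 p M (θ a) ∧
      ip (permC Y (Y ⧸ RGD.B cs h T X)) (θ a : Y → ℂ) ≠ 0 := by
  choose c h1 h2 using fun a : s => (hs a a.2).2
  choose θ h3 h4 using fun a : s => (h1 a).exists_mem0 (h2 a)
  refine ⟨θ, fun a b hab => ?_, fun a => ⟨h3 a, perm_ne_zero R hG (h4 a)⟩⟩
  by_contra hne
  have hne' : (a : ℕ) ≠ b := fun e => hne (Subtype.ext e)
  rcases beta_disj R hG (hs a a.2).1 (hs b b.2).1 hne' (θ a) with h5 | h5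
  · exact h4 a h5
  · rw [hab] at h5
    exact h4 b h5

include R in
theorem card_le_x0 (hG : GG cs h T X = ⊤) {s : Finset ℕ} (hs : ∀ a ∈ s, a ≤ m ∧ GdC p M cs h T X a) :
    s.card ≤ x0 p M Y := by
  obtain ⟨θ, h1, h2⟩ := exists_mem R hG hs
  have := finite_mem0 (p := p) (M := M) (G := Y)
  have h3 := Nat.card_le_card_of_injective (fun a : s => (⟨θ a, (h2 a).1⟩ : {χ : IrrCharacter Y // Mem0 p M χ}))
    fun a b hab => h1 (congrArg Subtype.val hab)
  rwa [Nat.card_eq_fintype_card, Fintype.card_coe] at h3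

include R in
/-- **Good nodes and invariant forms.** -/
theorem card_le_x0_forms (hG : GG cs h T X = ⊤) (hM : IsPModular p M) (hpG : p ∣ Nat.card Y) {P : Sylow p Y}
    (hab : ∀ x ∈ P, ∀ y ∈ P, x * y = y * x) {D : ℕ} (h1 : 1 ≤ D) (h2 : D + 2 ≤ p) {ι : Type*} [Finite ι]
    {f : ι → LL p P → ZMod p} (hf : LinearIndependent (ZMod p) f) (hP : ∀ i, f i ∈ Pol p P D) (hW : ∀ i, WInv P (f i))
    {s : Finset ℕ} (hs : ∀ a ∈ s, a ≤ m ∧ GdC p M cs h T X a) :
    s.card + Nat.card ι * ((p - 1) / Nat.gcd D (p - 1)) ≤ x0 p M Y + Nat.card ι := by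
  choose c h3 h4 using fun a : s => (hs a a.2).2
  have h5 := Cfsg.Agent.H26.XZ.mix_gal hM hpG hab h1 h2 hf hP hW (κ := s) h3 h4 (fun a b hab χ =>
    beta_disj R hG (hs a a.2).1 (hs b b.2).1 (fun e => hab (Subtype.ext e)) χ) fun a u _ g => betaPJ_stable _ u g
  rwa [Nat.card_eq_fintype_card (α := s), Fintype.card_coe] at h5

include R in
/-- the elliptic case -/
theorem gd_of_dvd (hG : GG cs h T X = ⊤) (hM : IsPModular p M) {a : ℕ}
    (hd : ∀ k : Fin m, a ≤ (k : ℕ) → p ∣ (PJ cs h T X ({k}ᶜ : Set (Fin m))).index) : GdC p M cs h T X a := by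
  refine ⟨_, FV_elliptic R hG hM (ge a) fun k hk => hd k (mem_ge.1 hk), fun h1 => ?_⟩
  have h2 := (Nat.prime_iff_prime_int.1 hp.out).dvd_of_dvd_pow h1
  have h3 := Int.natAbs_dvd_natAbs.2 h2
  simp only [Int.natAbs_natCast, Int.natAbs_neg, Int.natAbs_one] at h3
  exact hp.out.one_lt.ne' (Nat.dvd_one.1 h3)

end main

end Cfsg.Agent.H674.XZ
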