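import Cfsg.Agent.H324.AP.Frame
import Cfsg.Agent.TitsThree.SpIdent

/-!
# S4791 + S4927, `PSp_2m(q)` : the isometry group, in the form of helper324 (helper674)

* `splF` : the symplectic form and its isometry group;
* `ker_comm`, `not_dvd_ker` : the kernel of `toPSp` is central, of order prime to `p ≠ 2`.
-/

set_option autoImplicit false

open Cfsg

namespace Cfsg.Agent.H674.XZ.Sp

open Cfsg.Agent.TitsThree Cfsg.Agent.TitsThree.SpIdent Cfsg.Agent.ClassicalGeometry.SympBasic Cfsg.Agent.H324.AP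

variable (m : ℕ) (F : Type*) [Field F]

/-- the symplectic form -/
theorem splF : SplF (RingHom.id F) (fun u v : Fin m ⊕ Fin m → F => sympForm m F u v) (isos (form m F)) where
  add_left := sympForm_add_left
  add_right := sympForm_add_right
  smul_left := sympForm_smul_left
  smul_right := fun a u v => by
    rw [RingHom.id_apply]
    exact sympForm_smul_right a u v
  refl := fun u v h => by
    rw [sympForm_swap, h, neg_zero]
  nd := fun u h => eq_zero_of_forall_sympForm_left fun v => by
    rw [sympForm_swap, h, neg_zero]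
  pres := fun g hg u v => hg u v
  split := by
    intro g hg g' U W hUW hB hU hgU hgW u v
    show sympForm m F (g' u) (g' v) = sympForm m F u v
    have hu : u ∈ U ⊔ W := by rw [hUW]; exact Submodule.mem_top
    have hv : v ∈ U ⊔ W := by rw [hUW]; exact Submodule.mem_top
    obtain ⟨a, ha, b, hb, rfl⟩ := Submodule.mem_sup.1 hu
    obtain ⟨c, hc, d, hd, rfl⟩ := Submodule.mem_sup.1 hv
    have h1 : sympForm m F (g a) (g c) = sympForm m F a c := hg a c
    have h2 : sympForm m F a d = 0 := hB a ha d hd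
    have h3 : sympForm m F (g a) d = 0 := hB _ (hU a ha) d hd
    have h4 : sympForm m F b c = 0 := by rw [sympForm_swap, hB c hc b hb, neg_zero]
    have h5 : sympForm m F b (g c) = 0 := by rw [sympForm_swap, hB _ (hU c hc) b hb, neg_zero]
    rw [map_add, map_add, hgU a ha, hgU c hc, hgW b hb, hgW d hd]
    simp only [sympForm_add_left, sympForm_add_right, h1, h2, h3, h4, h5]

variable {m F}

theorem ker_smul {g : isos (form m F)} (hg : g ∈ (toPSp (m := m) (F := F)).ker) :
    ∃ a : F, a ^ 2 = 1 ∧ ∀ v, g.1 v = a • v := exists_smul_of_toPSp_eq_one hg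

theorem ker_comm {g : isos (form m F)} (hg : g ∈ (toPSp (m := m) (F := F)).ker) (h : isos (form m F)) : g * h = h * g := by
  obtain ⟨a, -, ha⟩ := ker_smul hg
  apply Subtype.ext
  ext1 v
  show g.1 (h.1 v) = h.1 (g.1 v)
  rw [ha, ha, map_smul]

theorem ker_sq {g : isos (form m F)} (hg : g ∈ (toPSp (m := m) (F := F)).ker) : g ^ 2 = 1 := by
  obtain ⟨a, ha2, ha⟩ := ker_smul hg
  apply Subtype.ext
  ext1 v
  rw [sq]
  show g.1 (g.1 v) = v
  rw [ha, ha, smul_smul, ← sq, ha2, one_smul]

theorem not_dvd_ker [Finite F] {p : ℕ} [hp : Fact p.Prime] (hp2 : p ≠ 2) : ¬ p ∣ Nat.card (toPSp (m := m) (F := F)).ker := by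
  have hfin : Finite ((Fin m ⊕ Fin m → F) ≃ₗ[F] (Fin m ⊕ Fin m → F)) :=
    Finite.of_injective (fun g => (g : (Fin m ⊕ Fin m → F) → (Fin m ⊕ Fin m → F))) DFunLike.coe_injective
  intro h
  obtain ⟨g, hg⟩ := exists_prime_orderOf_dvd_card' p h
  have h1 : g ^ 2 = 1 := Subtype.ext (ker_sq g.2)
  have h2 := orderOf_dvd_of_pow_eq_one h1
  rw [hg] at h2
  exact hp2 ((Nat.prime_dvd_prime_iff_eq hp.out Nat.prime_two).1 h2)

end Cfsg.Agent.H674.XZ.Sp
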