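import Cfsg.Agent.H674.XZ.RowPSpA
import Cfsg.Agent.H674.XZ.PAbL
import Cfsg.Agent.H674.XZ.SpFrm
import Cfsg.Agent.H324.AP.PSp

/-!
# S4791 + S4927, `PSp_2m(q)` : abelian Sylow subgroups, the forms, the row from the linear primes (helper674)
-/

set_option autoImplicit false
set_option linter.unusedSectionVars false

open Cfsg Subgroup

namespace Cfsg.Agent.H674.XZ.Sp

open Cfsg.Agent.TitsThree Cfsg.Agent.TitsThree.SpIdent Cfsg.Agent.ClassicalGeometry.SympBasic Cfsg.Agent.H324.AP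
open Cfsg.Agent.H508.XR Cfsg.Agent.H508.KB Cfsg.Agent.H668.XZ Module

universe u

/-- the isometries as linear maps -/
noncomputable def rhoSp (m : ℕ) (F : Type*) [Field F] : isos (form m F) →* End F (Fin m ⊕ Fin m → F) where
  toFun g := (g.1 : (Fin m ⊕ Fin m → F) →ₗ[F] (Fin m ⊕ Fin m → F))
  map_one' := rfl
  map_mul' _ _ := rfl

theorem rhoSp_injective (m : ℕ) (F : Type*) [Field F] : Function.Injective (rhoSp m F) := by
  intro g g' h
  apply Subtype.ext
  ext1 v
  exact congrArg (fun L : End F (Fin m ⊕ Fin m → F) => L v) h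

section

variable {p : ℕ} [hp : Fact p.Prime]

/-- `q ^ j ≠ -1` modulo `p` if the order of `q` is odd -/
theorem lin_arith (hp2 : p ≠ 2) {q : ℕ} (h : ¬ Even (orderOf (q : ZMod p))) (j : ℕ) : ¬ p ∣ q ^ j + 1 := by
  intro h1
  have h2 : (q : ZMod p) ^ j = -1 := by
    have h3 := (ZMod.natCast_eq_zero_iff _ _).2 h1
    push_cast at h3
    exact eq_neg_of_add_eq_zero_left h3
  have h3 : (q : ZMod p) ^ (j * 2) = 1 := by rw [pow_mul, h2]; ring
  have h4 : orderOf (q : ZMod p) ∣ j := by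
    have h5 : Nat.Coprime (orderOf (q : ZMod p)) 2 := ((Nat.coprime_two_left).2 (Nat.not_even_iff_odd.1 h)).symm
    exact h5.dvd_of_dvd_mul_right (orderOf_dvd_of_pow_eq_one h3)
  have h5 : (q : ZMod p) ^ j = 1 := orderOf_dvd_iff_pow_eq_one.1 h4
  rw [h5] at h2
  have h6 : ((2 : ℕ) : ZMod p) = 0 := by
    push_cast
    rw [← one_add_one_eq_two]
    nth_rewrite 1 [h2]
    ring
  rw [ZMod.natCast_eq_zero_iff] at h6
  exact hp2 ((Nat.prime_dvd_prime_iff_eq hp.out Nat.prime_two).1 h6)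

/-- **abelian Sylow subgroups** -/
theorem abSyl_psp {r : ℕ} [hr : Fact r.Prime] (hrp : r ≠ p) (hp2 : p ≠ 2) {F : Type} [Field F] [Fintype F] [CharP F r]
    {m : ℕ} {S : Type u} [Group S] [Finite S] (e : S ≃* PSp m F) (h : m < p * hv p (Fintype.card F)) :
    Cfsg.Agent.H443.XC.AbSyl p S := by
  have hfin : Finite ((Fin m ⊕ Fin m → F) ≃ₗ[F] (Fin m ⊕ Fin m → F)) :=
    Finite.of_injective (fun g => (g : (Fin m ⊕ Fin m → F) → (Fin m ⊕ Fin m → F))) DFunLike.coe_injective
  have hpF : (p : F) ≠ 0 := by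
    intro h0
    rw [CharP.cast_eq_zero_iff F r p] at h0
    exact hrp ((Nat.prime_dvd_prime_iff_eq hr.out hp.out).1 h0)
  let π : isos (form m F) →* S := (e.symm : PSp m F →* S).comp toPSp
  have hπ : Function.Surjective π := e.symm.surjective.comp toPSp_surjective
  have hdim : finrank F (Fin m ⊕ Fin m → F) = 2 * m := by
    rw [Module.finrank_fintype_fun_eq_card, Fintype.card_sum, Fintype.card_fin]
    ring
  intro P
  by_cases hev : Even (orderOf (Fintype.card F : ZMod p))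
  · refine Iso.comm_of_lt hpF π hπ (rhoSp m F) (rhoSp_injective m F) ?_ P
    rw [hdim, hv_even hev]
    calc 2 * m < 2 * (p * hv p (Fintype.card F)) := by omega
      _ = _ := by ring
  · refine Iso.comm_of_lt_lin (r := r) (s := 0) hpF (RingEquiv.refl F) (fun a => by simp) (fun j => ?_) π hπ
      (rhoSp m F) (rhoSp_injective m F) (B := fun u v => sympForm m F u v) sympForm_add_left sympForm_add_right
      sympForm_smul_left (fun a u v => sympForm_smul_right a u v) (fun g u v => g.2 u v) (splF m F).nd ?_ P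
    · rw [pow_zero]
      exact lin_arith hp2 hev j
    · rw [hdim, hv_odd hev]
      omega

theorem dSp_eq {q : ℕ} : Cfsg.Agent.H443.XC.dSp p q = 2 * hv p q := by
  unfold Cfsg.Agent.H443.XC.dSp hv
  split_ifs with h
  · obtain ⟨k, hk⟩ := h
    omega
  · rfl

/-- **the forms** -/
theorem forms_psp {r : ℕ} [hr : Fact r.Prime] (hrp : r ≠ p) (hp2 : p ≠ 2) {F : Type} [Field F] [Fintype F] [CharP F r]
    {m : ℕ} {S : Type u} [Group S] [Finite S] (e : S ≃* PSp m F) (hP : NC p S) (h : m < p * hv p (Fintype.card F))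
    {c : ℕ} (hc2 : 2 ≤ c) (hc : 2 * hv p (Fintype.card F) * c = p - 1) : FormsE p S (2 * hv p (Fintype.card F)) c := by
  have hA := abSyl_psp hrp hp2 e h
  have h1 := frmB_psp hrp hp2 e hA hP
  have hpos : 1 ≤ hv p (Fintype.card F) := hv_pos (not_dvd_card hrp)
  have h2 := h1.frmG hp2 (by rw [dSp_eq]; omega)
  obtain ⟨P⟩ : Nonempty (Sylow p S) := inferInstance
  obtain ⟨h3, h4⟩ := h2 P
  rw [dSp_eq] at h4
  obtain ⟨f, h5, h6, h7⟩ := h4 c hc hc2
  exact Or.inr ⟨P, h3, f, h5, h6, h7⟩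

end

/-- **the row of `PSp_2m(q)` from the linear primes** -/
theorem row_psp_of_lin {p : ℕ} [hp : Fact p.Prime] {M : Ideal AlgInt} (h11 : 11 ≤ p) (hM : IsPModular p M) {r : ℕ}
    [hr : Fact r.Prime] (hrp : r ≠ p) {F : Type} [Field F] [Fintype F] [CharP F r] {m : ℕ} (hm : 2 ≤ m)
    {S : Type u} [Group S] [Finite S] (e : S ≃* PSp m F) (hP : NC p S)
    (hlin : 2 * orderOf (Fintype.card F : ZMod p) ≤ m → Odd (orderOf (Fintype.card F : ZMod p)) →
      LinB p M r S m (Fintype.card F) (Fintype.card F)) : Row0 p M S :=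
  row_psp_of h11 hM hrp hm e hP hlin fun _ h2 _ hc2 hc => forms_psp hrp (by omega) e hP h2 hc2 hc

end Cfsg.Agent.H674.XZ.Sp
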