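import Cfsg.Agent.H674.XZ.OddA
import Cfsg.Agent.H674.XZ.RowPSpB
import Cfsg.Agent.H324.AP.POm

/-!
# S4791 + S4927, `PΩ_{2m+1}(q)` : abelian Sylow subgroups, the forms (helper674)
-/

set_option autoImplicit false
set_option linter.unusedSectionVars false

open Cfsg Subgroup

namespace Cfsg.Agent.H674.XZ.Odd

open Cfsg.Agent.LieClassical.OrthCore Cfsg.Agent.LieClassical.OrthTrans Cfsg.Agent.LieClassical.OrthForms
open Cfsg.Agent.LieClassical.OrthFinite Cfsg.Agent.H324.AP
open Cfsg.Agent.TitsThree.KSideO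
open Cfsg.Agent.H508.XR Cfsg.Agent.H508.KB Cfsg.Agent.H668.XZ Cfsg.Agent.H674.XZ.Sp Module

universe u

/-- the isometries as linear maps -/
def rhoE {F V : Type*} [Field F] [AddCommGroup V] [Module F V] (Q : QuadraticForm F V) : E Q →* End F V where
  toFun g := ((g : V ≃ₗ[F] V) : V →ₗ[F] V)
  map_one' := rfl
  map_mul' _ _ := rfl

theorem rhoE_injective {F V : Type*} [Field F] [AddCommGroup V] [Module F V] (Q : QuadraticForm F V) :
    Function.Injective (rhoE Q) := by
  intro g g' h
  apply Subtype.ext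
  ext1 v
  exact congrArg (fun L : End F V => L v) h

variable {p : ℕ} [hp : Fact p.Prime]

/-- **abelian Sylow subgroups**, quotients of `E Q` -/
theorem abSyl_E {r : ℕ} [hr : Fact r.Prime] (hrp : r ≠ p) (hp2 : p ≠ 2) {F V : Type} [Field F] [Fintype F] [CharP F r]
    [AddCommGroup V] [Module F V] [Finite V] {Q : QuadraticForm F V} (hG : Good Q) {S : Type u} [Group S] [Finite S]
    (π : E Q →* S) (hπ : Function.Surjective π) (h : finrank F V < 2 * (p * hv p (Fintype.card F))) :
    Cfsg.Agent.H443.XC.AbSyl p S := by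
  have hfin : Finite (V ≃ₗ[F] V) :=
    Finite.of_injective (fun g => (g : V → V)) DFunLike.coe_injective
  have hfd : FiniteDimensional F V := Module.finite_of_finrank_pos (by have := hG.dim; omega)
  have hpF : (p : F) ≠ 0 := by
    intro h0
    rw [CharP.cast_eq_zero_iff F r p] at h0
    exact hrp ((Nat.prime_dvd_prime_iff_eq hr.out hp.out).1 h0)
  have D := splF_of_spl (Cfsg.Agent.H418.KB.spl_O hG.nondeg)
  intro P
  by_cases hev : Even (orderOf (Fintype.card F : ZMod p))
  · refine Iso.comm_of_lt hpF π hπ (rhoE Q) (rhoE_injective Q) ?_ P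
    rw [hv_even hev]
    calc finrank F V < _ := h
      _ = _ := by ring
  · refine Iso.comm_of_lt_lin (r := r) (s := 0) hpF (RingEquiv.refl F) (fun a => by simp) (fun j => ?_) π hπ
      (rhoE Q) (rhoE_injective Q) D.add_left D.add_right
      D.smul_left (fun a u v => D.smul_right a u v) (fun g u v => D.pres g (E_le_O g.2) u v) D.nd ?_ P
    · rw [pow_zero]
      exact lin_arith hp2 hev j
    · rwa [hv_odd hev]

/-- **the forms** -/
theorem forms_oodd {r : ℕ} [hr : Fact r.Prime] (hrp : r ≠ p) (hp2 : p ≠ 2) {F : Type} [Field F] [Fintype F] [CharP F r]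
    {m : ℕ} (hm : 3 ≤ m) (ho : Odd (Fintype.card F)) {S : Type u} [Group S] [Finite S]
    (e : S ≃* POmega F (quadFormOdd m F)) (hP : NC p S) (h : m < p * hv p (Fintype.card F))
    {c : ℕ} (hc2 : 2 ≤ c) (hc : 2 * hv p (Fintype.card F) * c = p - 1) : FormsE p S (2 * hv p (Fintype.card F)) c := by
  have hG := good (m := m) (two_ne ho) (by omega)
  have hA : Cfsg.Agent.H443.XC.AbSyl p S := by
    have e1 : S ≃* POmega F ⇑(oddForm m F) := by
      rw [coe_oddForm]
      exact e
    refine abSyl_E (r := r) hrp hp2 hG ((e1.symm : POmega F ⇑(oddForm m F) →* S).comp (toPOmega hG))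
      (e1.symm.surjective.comp (toPOmega_surjective hG)) ?_
    rw [Module.finrank_fintype_fun_eq_card, Fintype.card_sum, Fintype.card_sum, Fintype.card_fin, Fintype.card_unit]
    omega
  have h1 := frmB_omegaOdd hrp hp2 hA hP hm ho e
  have hpos : 1 ≤ hv p (Fintype.card F) := hv_pos (not_dvd_card hrp)
  have h2 := h1.frmG hp2 (by rw [dSp_eq]; omega)
  obtain ⟨P⟩ : Nonempty (Sylow p S) := inferInstance
  obtain ⟨h3, h4⟩ := h2 P
  rw [dSp_eq] at h4
  obtain ⟨f, h5, h6, h7⟩ := h4 c hc hc2
  exact Or.inr ⟨P, h3, f, h5, h6, h7⟩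

end Cfsg.Agent.H674.XZ.Odd
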