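import Mathlib

/-!
# S4791 + S4927, linear primes: the isotypic components (helper674)

`F` a finite field, `p` a prime, `e = ord_p |F|`, `x` of order `p` on `V = M ⊕ N ⊕ R`, trivial on `R`, `dim M, dim N ≤ e`,
`M`, `N` dual with respect to an `x`-invariant form which is sesquilinear with respect to `a ↦ a ^ k`, and
`p ∤ |F| ^ j + k`. Then everything which commutes with `x` preserves `M` and `N`.
-/

set_option autoImplicit false
set_option linter.unusedSectionVars false

namespace Cfsg.Agent.H674.XZ.Iso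

open Polynomial Module

variable {p : ℕ} [hp : Fact p.Prime] {F : Type*} [Field F] [Fintype F]

section roots

variable {K : Type*} [Field K] [Algebra F K]

omit hp in
theorem aeval_pow (f : F[X]) (ζ : K) (j : ℕ) :
    aeval (ζ ^ (Fintype.card F ^ j)) f = aeval ζ f ^ (Fintype.card F ^ j) := by
  induction j with
  | zero => simp
  | succ j ih =>
    rw [pow_succ, pow_mul, ← expand_aeval, FiniteField.expand_card, map_pow, ih, ← pow_mul]

/-- a polynomial of degree at most `e` with a root `ζ` of order `p` has only the roots `ζ ^ (|F| ^ j)` -/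
theorem eq_pow_of_root {f : F[X]} (hf : f ≠ 0) (hdeg : f.natDegree ≤ orderOf (Fintype.card F : ZMod p)) {ζ η : K}
    (hζ : ζ ^ p = 1) (hζ1 : ζ ≠ 1) (h1 : aeval ζ f = 0) (h2 : aeval η f = 0) : ∃ j : ℕ, η = ζ ^ (Fintype.card F ^ j) := by
  classical
  have ho : orderOf ζ = p := orderOf_eq_prime hζ hζ1
  set e := orderOf (Fintype.card F : ZMod p) with he
  set s : Finset K := (Finset.range e).image fun j => ζ ^ (Fintype.card F ^ j) with hs
  have hinj : Set.InjOn (fun j => ζ ^ (Fintype.card F ^ j)) (Finset.range e : Finset ℕ) := by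
    intro i hi j hj hij
    rw [Finset.mem_coe, Finset.mem_range] at hi hj
    have h3 : Fintype.card F ^ i ≡ Fintype.card F ^ j [MOD p] := by
      rw [← ho]
      have hij' : ζ ^ (Fintype.card F ^ i) = ζ ^ (Fintype.card F ^ j) := hij
      exact (IsOfFinOrder.pow_eq_pow_iff_modEq (isOfFinOrder_iff_pow_eq_one.2 ⟨p, hp.out.pos, hζ⟩)).1 hij'
    have h4 : ((Fintype.card F : ZMod p)) ^ i = (Fintype.card F : ZMod p) ^ j := by
      have h5 := (ZMod.natCast_eq_natCast_iff _ _ _).2 h3
      push_cast at h5
      exact h5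
    exact pow_injOn_Iio_orderOf hi hj h4
  have hscard : s.card = e := by
    rw [hs, Finset.card_image_of_injOn hinj, Finset.card_range]
  have hfK : f.map (algebraMap F K) ≠ 0 := (Polynomial.map_ne_zero_iff (algebraMap F K).injective).2 hf
  have hsub : s ⊆ (f.map (algebraMap F K)).roots.toFinset := by
    intro a ha
    obtain ⟨j, -, rfl⟩ := Finset.mem_image.1 ha
    rw [Multiset.mem_toFinset, mem_roots hfK, IsRoot.def, eval_map_algebraMap, aeval_pow, h1,
      zero_pow (pow_ne_zero _ Fintype.card_ne_zero)]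
  have hle : (f.map (algebraMap F K)).roots.toFinset.card ≤ s.card := by
    rw [hscard]
    refine (Multiset.toFinset_card_le _).trans ((card_roots' _).trans ?_)
    rw [natDegree_map]
    exact hdeg
  have heq := Finset.eq_of_subset_of_card_le hsub hle
  have h3 : η ∈ s := by
    rw [heq, Multiset.mem_toFinset, mem_roots hfK, IsRoot.def, eval_map_algebraMap]
    exact h2
  obtain ⟨j, -, h4⟩ := Finset.mem_image.1 h3
  exact ⟨j, h4.symm⟩

end roots

section fixed

variable {M : Type*} [AddCommGroup M] [Module F M] [FiniteDimensional F M]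

/-- an operator of order `p` in dimension at most `e` has no fixed vectors -/
theorem no_fixed (hpq : ¬ p ∣ Fintype.card F) {x : End F M} (hx : x ^ p = 1) (hne : x ≠ 1)
    (hdim : finrank F M ≤ orderOf (Fintype.card F : ZMod p)) {v : M} (hv : x v = v) : v = 0 := by
  classical
  have : Finite M := Module.finite_of_finite F
  let u : (End F M)ˣ := Units.ofPowEqOne x p hx hp.out.ne_zero
  have hu : ∀ m : M, u • m = x m := fun m => rfl
  have hG : IsPGroup p (Subgroup.zpowers u) := by
    rintro ⟨g, k, rfl⟩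
    refine ⟨1, ?_⟩
    apply Subtype.ext
    have h1 : u ^ p = 1 := by
      apply Units.ext
      rw [Units.val_pow_eq_pow_val]
      exact hx
    show (u ^ k) ^ (p ^ 1) = 1
    rw [pow_one, ← zpow_natCast, ← zpow_mul, mul_comm, zpow_mul, zpow_natCast, h1, one_zpow]
  have h1 := hG.card_modEq_card_fixedPoints M
  have h2 : Nat.card (MulAction.fixedPoints (Subgroup.zpowers u) M) = Nat.card (LinearMap.ker (x - 1)) := by
    refine Nat.card_congr (Equiv.subtypeEquivRight fun m => ?_)
    rw [MulAction.mem_fixedPoints, LinearMap.mem_ker, LinearMap.sub_apply, End.one_apply, sub_eq_zero]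
    constructor
    · intro h
      exact h ⟨u, Subgroup.mem_zpowers u⟩
    · rintro h ⟨g, k, rfl⟩
      have h3 : u ∈ MulAction.stabilizer (End F M)ˣ m := by
        rw [MulAction.mem_stabilizer_iff, hu, h]
      exact (MulAction.mem_stabilizer_iff.1 (Subgroup.zpow_mem _ h3 k))
  rw [h2, Module.natCard_eq_pow_finrank (K := F), Module.natCard_eq_pow_finrank (K := F) (V := LinearMap.ker (x - 1)),
    Nat.card_eq_fintype_card] at h1
  set d := finrank F M
  set d1 := finrank F (LinearMap.ker (x - 1)) with hd1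
  have hle : d1 ≤ d := Submodule.finrank_le _
  have hlt : d1 < d := by
    refine lt_of_le_of_ne hle fun h3 => hne ?_
    have h4 : LinearMap.ker (x - 1) = ⊤ := Submodule.eq_top_of_finrank_eq h3
    rw [LinearMap.ker_eq_top, sub_eq_zero] at h4
    exact h4
  have h3 : (Fintype.card F : ZMod p) ^ (d - d1) = 1 := by
    have h4 := (ZMod.natCast_eq_natCast_iff _ _ _).2 h1
    push_cast at h4
    have h5 : (Fintype.card F : ZMod p) ≠ 0 := fun h => hpq ((ZMod.natCast_eq_zero_iff _ _).1 h)
    have h6 : (Fintype.card F : ZMod p) ^ d = (Fintype.card F : ZMod p) ^ (d - d1) * (Fintype.card F : ZMod p) ^ d1 := by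
      rw [← pow_add]
      congr 1
      omega
    rw [h6] at h4
    exact mul_right_cancel₀ (pow_ne_zero d1 h5) (by rw [h4, one_mul])
  have h4 := Nat.le_of_dvd (by omega) (orderOf_dvd_of_pow_eq_one h3)
  have h5 : d1 = 0 := by omega
  have h6 : LinearMap.ker (x - 1) = ⊥ := Submodule.finrank_eq_zero.1 h5
  have h7 : v ∈ LinearMap.ker (x - 1) := by
    rw [LinearMap.mem_ker, LinearMap.sub_apply, End.one_apply, hv, sub_self]
  rw [h6] at h7
  exact (Submodule.mem_bot F).1 h7

end fixed

section main

variable {M N : Type*} [AddCommGroup M] [Module F M] [FiniteDimensional F M] [AddCommGroup N] [Module F N]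
  [FiniteDimensional F N]

omit [FiniteDimensional F M] [FiniteDimensional F N] [Fintype F] in
theorem pair_pow {x : End F M} {y : End F N} (hy : y ^ p = 1) {B : M → N → F} (hinv : ∀ u v, B (x u) (y v) = B u v) (n : ℕ)
    (u : M) (v : N) : B ((x ^ n) u) v = B u ((y ^ ((p - 1) * n)) v) := by
  have h1 : ∀ (n : ℕ) (u : M) (v : N), B ((x ^ n) u) ((y ^ n) v) = B u v := by
    intro n
    induction n with
    | zero => intro u v; rfl
    | succ n ih =>
      intro u v
      rw [pow_succ', pow_succ', End.mul_apply, End.mul_apply, hinv, ih]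
  have h2 : (y ^ n) ((y ^ ((p - 1) * n)) v) = v := by
    rw [← End.mul_apply, ← pow_add]
    have h3 : n + (p - 1) * n = p * n := by
      obtain ⟨d, hd⟩ : ∃ d, p = d + 1 := ⟨p - 1, by have := hp.out.pos; omega⟩
      rw [hd, Nat.add_sub_cancel]
      ring
    rw [h3, pow_mul, hy, one_pow, End.one_apply]
  conv_lhs => rw [← h2]
  exact h1 n u _

/-- a common root of the minimal polynomials -/
theorem no_common_root {K : Type*} [Field K] [Algebra F K] (hpq : ¬ p ∣ Fintype.card F) {r s : ℕ} [Fact r.Prime]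
    [CharP F r] (σ : F ≃+* F) (hσ : ∀ a, σ a = a ^ (r ^ s)) (hlin : ∀ j, ¬ p ∣ Fintype.card F ^ j + r ^ s) {x : End F M}
    {y : End F N} (hx : x ^ p = 1) (hx1 : x ≠ 1) (hy : y ^ p = 1)
    (hdim : finrank F M ≤ orderOf (Fintype.card F : ZMod p))
    {B : M → N → F} (hadd1 : ∀ u u' v, B (u + u') v = B u v + B u' v) (hadd2 : ∀ u v v', B u (v + v') = B u v + B u v')
    (hs1 : ∀ (a : F) u v, B (a • u) v = a * B u v) (hs2 : ∀ (a : F) u v, B u (a • v) = σ a * B u v)
    (hinv : ∀ u v, B (x u) (y v) = B u v) (hnd : ∀ v, (∀ u, B u v = 0) → v = 0) (a : K)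
    (h1 : aeval a (minpoly F x) = 0) (h2 : aeval a (minpoly F y) = 0) : False := by
  set f := minpoly F x with hf
  -- the dual polynomial
  have key : ∀ (P : F[X]) (u : M) (v : N),
      B u (aeval y (expand F (p - 1) (P.map (σ.symm : F →+* F))) v) = B (aeval x P u) v := by
    intro P
    induction P using Polynomial.induction_on' with
    | add P Q hP hQ =>
      intro u v
      rw [Polynomial.map_add, map_add, map_add, map_add, LinearMap.add_apply, LinearMap.add_apply, hadd1, hadd2, hP, hQ]
    | monomial n b =>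
      intro u v
      rw [map_monomial, expand_monomial, aeval_monomial, aeval_monomial, End.mul_apply, End.mul_apply,
        Module.algebraMap_end_apply, Module.algebraMap_end_apply, hs1, hs2, pair_pow hy hinv, mul_comm n]
      congr 1
      exact σ.apply_symm_apply b
  have h3 : aeval y (expand F (p - 1) (f.map (σ.symm : F →+* F))) = 0 := by
    apply LinearMap.ext
    intro v
    rw [LinearMap.zero_apply]
    refine hnd _ fun u => ?_
    rw [key, hf, minpoly.aeval, LinearMap.zero_apply]
    have := hs1 0 0 v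
    rwa [zero_smul, zero_mul] at this
  have h4 : aeval (a ^ (p - 1)) (f.map (σ.symm : F →+* F)) = 0 := by
    rw [← expand_aeval]
    obtain ⟨g, hg⟩ := minpoly.dvd F y h3
    rw [hg, map_mul, h2, zero_mul]
  have : CharP K r := charP_of_injective_algebraMap (algebraMap F K).injective r
  have h5 : aeval ((a ^ (p - 1)) ^ (r ^ s)) f = 0 := by
    have h6 := congrArg (iterateFrobenius K r s) h4
    rw [map_zero, aeval_def, hom_eval₂, eval₂_map] at h6
    rw [aeval_def, ← iterateFrobenius_def (R := K) r s]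
    have h7 : ((iterateFrobenius K r s).comp (algebraMap F K)).comp (σ.symm : F →+* F) = algebraMap F K := by
      apply RingHom.ext
      intro b
      rw [RingHom.comp_apply, RingHom.comp_apply, iterateFrobenius_def, ← map_pow]
      congr 1
      rw [← hσ]
      exact σ.apply_symm_apply b
    rwa [h7] at h6
  -- the order of `a`
  have h6 : a ^ p = 1 := by
    have h7 : aeval x (X ^ p - 1 : F[X]) = 0 := by
      rw [map_sub, map_pow, aeval_X, map_one, hx, sub_self]
    obtain ⟨g, hg⟩ := minpoly.dvd F x h7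
    have h8 : aeval a (X ^ p - 1 : F[X]) = 0 := by
      rw [hg, map_mul, ← hf, h1, zero_mul]
    rw [map_sub, map_pow, aeval_X, map_one, sub_eq_zero] at h8
    exact h8
  have h7 : a ≠ 1 := by
    intro ha
    have h8 : f.IsRoot 1 := by
      rw [IsRoot.def]
      apply (algebraMap F K).injective
      rw [map_zero, ← h1, ha, ← eval₂_at_apply, map_one, aeval_def]
    obtain ⟨v, hv⟩ := (Module.End.hasEigenvalue_of_isRoot h8).exists_hasEigenvector
    have h9 := hv.apply_eq_smul
    rw [one_smul] at h9
    exact hv.2 (no_fixed hpq hx hx1 hdim h9)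
  have hf0 : f ≠ 0 := minpoly.ne_zero (Algebra.IsIntegral.isIntegral x)
  have hdeg : f.natDegree ≤ orderOf (Fintype.card F : ZMod p) := by
    refine le_trans ?_ hdim
    rw [← LinearMap.charpoly_natDegree x]
    exact natDegree_le_of_dvd (LinearMap.minpoly_dvd_charpoly x) (LinearMap.charpoly_monic x).ne_zero
  obtain ⟨j, hj⟩ := eq_pow_of_root hf0 hdeg h6 h7 h1 h5
  apply hlin j
  have ho : orderOf a = p := orderOf_eq_prime h6 h7
  rw [← pow_mul, IsOfFinOrder.pow_eq_pow_iff_modEq (isOfFinOrder_iff_pow_eq_one.2 ⟨p, hp.out.pos, h6⟩), ho] at hj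
  have h8 : Fintype.card F ^ j + r ^ s ≡ (p - 1) * r ^ s + r ^ s [MOD p] := (hj.symm).add_right _
  have h9 : (p - 1) * r ^ s + r ^ s = p * r ^ s := by
    obtain ⟨d, hd⟩ : ∃ d, p = d + 1 := ⟨p - 1, by have := hp.out.pos; omega⟩
    rw [hd, Nat.add_sub_cancel]
    ring
  rw [h9] at h8
  exact (Nat.modEq_zero_iff_dvd.1 (h8.trans (Nat.modEq_zero_iff_dvd.2 (Dvd.intro _ rfl))))

/-- **The separating polynomial** : `f(x) = 0`, `f(y)` injective, `f(1) ≠ 0`. -/
theorem exists_poly (hpq : ¬ p ∣ Fintype.card F) {r s : ℕ} [Fact r.Prime]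
    [CharP F r] (σ : F ≃+* F) (hσ : ∀ a, σ a = a ^ (r ^ s)) (hlin : ∀ j, ¬ p ∣ Fintype.card F ^ j + r ^ s) {x : End F M}
    {y : End F N} (hx : x ^ p = 1) (hx1 : x ≠ 1)
    (hdim : finrank F M ≤ orderOf (Fintype.card F : ZMod p))
    {B : M → N → F} (hadd1 : ∀ u u' v, B (u + u') v = B u v + B u' v) (hadd2 : ∀ u v v', B u (v + v') = B u v + B u v')
    (hs1 : ∀ (a : F) u v, B (a • u) v = a * B u v) (hs2 : ∀ (a : F) u v, B u (a • v) = σ a * B u v)
    (hinv : ∀ u v, B (x u) (y v) = B u v) (hnd : ∀ v, (∀ u, B u v = 0) → v = 0) :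
    ∃ f : F[X], f.eval 1 ≠ 0 ∧ aeval x f = 0 ∧ Function.Injective (aeval y f) := by
  have hneg : ∀ u v, B u (-v) = -B u v := by
    intro u v
    have h1 := hs2 (-1) u v
    rw [neg_smul, one_smul, map_neg, map_one, neg_mul, one_mul] at h1
    exact h1
  have hy : y ^ p = 1 := by
    apply LinearMap.ext
    intro v
    rw [End.one_apply, ← sub_eq_zero]
    refine hnd _ fun u => ?_
    rw [sub_eq_add_neg, hadd2, hneg]
    have h1 : ∀ (n : ℕ) (u : M) (v : N), B ((x ^ n) u) ((y ^ n) v) = B u v := by
      intro n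
      induction n with
      | zero => intro u v; rfl
      | succ n ih =>
        intro u v
        rw [pow_succ', pow_succ', End.mul_apply, End.mul_apply, hinv, ih]
    have h2 := h1 p u v
    rw [hx, End.one_apply] at h2
    rw [h2, add_neg_cancel]
  refine ⟨minpoly F x, fun h1 => ?_, minpoly.aeval F x, ?_⟩
  · obtain ⟨v, hv⟩ := (Module.End.hasEigenvalue_of_isRoot (f := x) (μ := 1) h1).exists_hasEigenvector
    have h9 := hv.apply_eq_smul
    rw [one_smul] at h9
    exact hv.2 (no_fixed hpq hx hx1 hdim h9)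
  · have hc : IsCoprime (minpoly F x) (minpoly F y) := by
      rw [isCoprime_iff_aeval_ne_zero_of_isAlgClosed F (AlgebraicClosure F)]
      intro a
      by_contra hcon
      push Not at hcon
      exact no_common_root hpq σ hσ hlin hx hx1 hy hdim hadd1 hadd2 hs1 hs2 hinv hnd a hcon.1 hcon.2
    obtain ⟨g, k, h1⟩ := hc
    have h2 := congrArg (aeval y) h1
    rw [map_add, map_mul, map_mul, minpoly.aeval, mul_zero, add_zero, map_one] at h2
    refine Function.LeftInverse.injective (g := aeval y g) fun v => ?_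
    rw [← End.mul_apply, h2, End.one_apply]

end main

section preserve

variable {V : Type*} [AddCommGroup V] [Module F V]

omit [Fintype F] in
/-- everything which commutes with `x` preserves the kernel of `f(x)` -/
theorem preserve {x c : End F V} (hc : c * x = x * c) {f : F[X]} {M N R : Submodule F V} (hsup : M ⊔ N ⊔ R = ⊤)
    (hdis : Disjoint N R) (hM : ∀ u ∈ M, aeval x f u = 0) (hN : ∀ u ∈ N, aeval x f u ∈ N)
    (hN0 : ∀ u ∈ N, aeval x f u = 0 → u = 0) (hR : ∀ u ∈ R, x u = u) (h1 : f.eval 1 ≠ 0) {u : V} (hu : u ∈ M) : c u ∈ M := by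
  have hcom : Commute c (aeval x f) := by
    have h2 : Commute c x := hc
    rw [aeval_eq_sum_range]
    exact Commute.sum_right _ _ _ fun i _ => (h2.pow_right i).smul_right _
  have h2 : aeval x f (c u) = 0 := by
    rw [← End.mul_apply, ← hcom.eq, End.mul_apply, hM u hu, map_zero]
  have h3 : c u ∈ M ⊔ N ⊔ R := by rw [hsup]; exact Submodule.mem_top
  obtain ⟨a, ha, t, ht, h4⟩ := Submodule.mem_sup.1 h3
  obtain ⟨m, hm, n, hn, rfl⟩ := Submodule.mem_sup.1 ha
  have h5 : ∀ P : F[X], aeval x P t = P.eval 1 • t := by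
    intro P
    induction P using Polynomial.induction_on' with
    | add P Q hP hQ => rw [map_add, LinearMap.add_apply, hP, hQ, eval_add, add_smul]
    | monomial k b =>
      have h6 : ∀ k : ℕ, (x ^ k) t = t := by
        intro k
        induction k with
        | zero => rfl
        | succ k ih => rw [pow_succ', End.mul_apply, ih, hR t ht]
      rw [aeval_monomial, End.mul_apply, h6, Module.algebraMap_end_apply, eval_monomial, one_pow, mul_one]
  rw [← h4, map_add, map_add, hM m hm, zero_add, h5] at h2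
  have h6 : aeval x f n = 0 := by
    have h7 : aeval x f n ∈ N ⊓ R := by
      refine ⟨hN n hn, ?_⟩
      rw [eq_neg_of_add_eq_zero_left h2]
      exact R.neg_mem (R.smul_mem _ ht)
    rw [hdis.eq_bot] at h7
    exact (Submodule.mem_bot F).1 h7
  have h7 : n = 0 := hN0 n hn h6
  rw [h6, zero_add] at h2
  have h8 : t = 0 := (smul_eq_zero.1 h2).resolve_left h1
  rw [← h4, h7, h8, add_zero, add_zero]
  exact hm

end preserve

end Cfsg.Agent.H674.XZ.Iso
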