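import Cfsg.Agent.H674.XZ.BlkOne
import Cfsg.Agent.H967.XZ.Cen

/-!
# S4791 + S4927, linear primes, `e = 1` : the block elements (helper674)
-/

set_option autoImplicit false
set_option linter.unusedSectionVars false

open Cfsg

namespace Cfsg.Agent.H674.XZ.Blk

open Cfsg.Agent.Nodes Cfsg.Agent.Nodes.WittAll
open Cfsg.Agent.TitsThree.Siegel Cfsg.Agent.TitsThree.WittFrame Cfsg.Agent.TitsThree.WittWeyl
  Cfsg.Agent.TitsThree.FrameCN Cfsg.Agent.H967.XZ

variable {F : Type*} [Field F] {V : Type*} [AddCommGroup V] [Module F V] {H : HForm F V} {m : ℕ} {Fr : Frame H (Fin m)}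

/-- the vectors orthogonal to the block are fixed -/
theorem yy_fix {i j : Fin m} (h : i ≠ j) {t : F} (ht : t ≠ 0) {v : V} (hv : ∀ s, H.h v (Fr.b (i, s)) = 0) :
    yy Fr i j t v = v := by
  set P : V := (H.h v (Fr.b (j, false)) * (Fr.η (j, false))⁻¹) • Fr.b (j, true) +
    (H.h v (Fr.b (j, true)) * (Fr.η (j, true))⁻¹) • Fr.b (j, false) with hP
  have e1 : neg ((j, true) : Fin m × Bool) = (j, false) := rfl
  have e2 : neg ((j, false) : Fin m × Bool) = (j, true) := rfl
  have e3 : H.h (Fr.b (j, true)) (Fr.b (j, false)) = Fr.η (j, false) := by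
    have := Fr.hb_self_neg (j, true)
    rwa [e1] at this
  have e4 : H.h (Fr.b (j, false)) (Fr.b (j, true)) = Fr.η (j, true) := by
    have := Fr.hb_self_neg (j, false)
    rwa [e2] at this
  have h1 : yy Fr i j t P = P := by
    rw [hP, map_add, map_smul, map_smul, yy_j_true h ht, yy_j_false h ht]
  have h2 : ∀ z : Fin m × Bool, z.1 = i ∨ z.1 = j → H.h (v - P) (Fr.b z) = 0 := by
    rintro ⟨l, s⟩ hz
    simp only at hz
    rw [H.sub_left, hP, H.add_left, H.smul_left, H.smul_left]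
    rcases hz with rfl | rfl
    · rw [hv, Fr.hb_of_ne (x := (j, true)) (y := (l, s)) h.symm, Fr.hb_of_ne (x := (j, false)) (y := (l, s)) h.symm]
      ring
    · cases s
      · rw [e3, Fr.hb_self (l, false), mul_assoc, inv_mul_cancel₀ (Fr.η_ne _)]
        ring
      · rw [e4, Fr.hb_self (l, true), mul_assoc, mul_assoc, inv_mul_cancel₀ (Fr.η_ne _)]
        ring
  have h3 := yy_orth h h2 t
  have h4 : v = P + (v - P) := by abel
  conv_lhs => rw [h4]
  rw [map_add, h1, h3, ← h4]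

/-- **`e = 1`** : the block elements, any group which contains the root elements `X x y t` -/
theorem exists_blkEl_one_gen [Fintype F] (I : Subgroup (V ≃ₗ[F] V)) (hI : ∀ (x y : Fin m × Bool) t, x.1 ≠ y.1 → Fr.X x y t ∈ I)
    {p : ℕ} [hp : Fact p.Prime]
    (he : orderOf (Fintype.card F : ZMod p) = 1) {k : ℕ} (hσ : ∀ a, H.σ a = a ^ k) (hk : ¬ p ∣ 1 + k) (hm : 2 ≤ m)
    {i : ℕ} (hi : i < m) : ∃ y : I, BlkEl Fr p 1 i y.1 := by
  classical
  -- an element of order `p`
  have h1 : p ∣ Fintype.card Fˣ := by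
    rw [Fintype.card_units]
    have h2 : (Fintype.card F : ZMod p) = 1 := orderOf_eq_one_iff.1 he
    have h3 : (((Fintype.card F - 1 : ℕ)) : ZMod p) = 0 := by
      rw [Nat.cast_sub Fintype.card_pos, h2, Nat.cast_one, sub_self]
    exact (ZMod.natCast_eq_zero_iff _ _).1 h3
  obtain ⟨u, hu⟩ := exists_prime_orderOf_dvd_card p h1
  have h2 : (u : F) ≠ 0 := u.ne_zero
  have h3 : ((u : F) * H.σ u) = ((u ^ (1 + k) : Fˣ) : F) := by
    rw [hσ, Units.val_pow_eq_pow_val]
    ring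
  have h4 : ((u : F) * H.σ u) ^ p = 1 := by
    rw [h3, ← Units.val_pow_eq_pow_val, ← pow_mul, mul_comm, pow_mul, ← hu, pow_orderOf_eq_one, one_pow, Units.val_one]
  have h5 : ((u : F) * H.σ u) ≠ 1 := by
    rw [h3]
    intro h
    have h6 : u ^ (1 + k) = 1 := Units.ext h
    have h7 := orderOf_dvd_of_pow_eq_one h6
    rw [hu] at h7
    exact hk h7
  obtain ⟨j, hj⟩ : ∃ j : Fin m, (⟨i, hi⟩ : Fin m) ≠ j := by
    rcases Nat.eq_zero_or_pos i with h | h
    · exact ⟨⟨1, by omega⟩, fun e => by have := congrArg Fin.val e; simp at this; omega⟩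
    · exact ⟨⟨0, by omega⟩, fun e => by have := congrArg Fin.val e; simp at this; omega⟩
  have hmem : ∀ (x y : Fin m × Bool) (s : F), x.1 ≠ y.1 → hX Fr x y s ∈ I := by
    intro x y s hxy
    unfold hX nX
    have a1 := hI x y s hxy
    have a2 := hI x y 1 hxy
    have a3 := hI (neg y) (neg x) (-s⁻¹) (by exact hxy.symm)
    have a4 := hI (neg y) (neg x) (-(1 : F)⁻¹) (by exact hxy.symm)
    exact I.mul_mem (I.mul_mem (I.mul_mem a1 a3) a1) (I.inv_mem (I.mul_mem (I.mul_mem a2 a4) a2))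
  refine ⟨⟨yy Fr ⟨i, hi⟩ j (u : F), I.mul_mem (hmem _ _ _ hj) (hmem _ _ _ hj)⟩, yy_pow hj h2 h4, fun h6 => h5 ?_, ?_, ?_⟩
  · have h7 : yy Fr ⟨i, hi⟩ j (u : F) (Fr.b (⟨i, hi⟩, true)) = Fr.b (⟨i, hi⟩, true) := by
      have h8 := congrArg (fun g : V ≃ₗ[F] V => g (Fr.b (⟨i, hi⟩, true))) h6
      exact h8
    rw [yy_true hj h2] at h7
    have h8 := congrArg (fun v => H.h v (Fr.b (⟨i, hi⟩, false))) h7
    simp only [H.smul_left] at h8
    have h9 : H.h (Fr.b (⟨i, hi⟩, true)) (Fr.b (⟨i, hi⟩, false)) ≠ 0 := by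
      have h10 := Fr.hb_self_neg (⟨i, hi⟩, true)
      have e : neg ((⟨i, hi⟩, true) : Fin m × Bool) = (⟨i, hi⟩, false) := rfl
      rw [e] at h10
      rw [h10]
      exact Fr.η_ne _
    have h10 : ((u : F) * H.σ u - 1) * H.h (Fr.b (⟨i, hi⟩, true)) (Fr.b (⟨i, hi⟩, false)) = 0 := by
      rw [sub_mul, one_mul, h8, sub_self]
    exact sub_eq_zero.1 ((mul_eq_zero.1 h10).resolve_right h9)
  · intro s v hv
    show yy Fr ⟨i, hi⟩ j (u : F) v ∈ _
    unfold Mb at hv ⊢
    induction hv using Submodule.span_induction with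
    | mem v hv =>
      obtain ⟨l, hj1, hj2, rfl⟩ := hv
      have hl : l = ⟨i, hi⟩ := Fin.ext (by
        show (l : ℕ) = i
        omega)
      subst hl
      have hmem : Fr.b (⟨i, hi⟩, s) ∈ Submodule.span F
          {v | ∃ k : Fin m, 1 * i ≤ (k : ℕ) ∧ (k : ℕ) < 1 * (i + 1) ∧ v = Fr.b (k, s)} :=
        Submodule.subset_span ⟨⟨i, hi⟩, hj1, hj2, rfl⟩
      cases s
      · rw [yy_false hj h2]
        exact Submodule.smul_mem _ _ hmem
      · rw [yy_true hj h2]
        exact Submodule.smul_mem _ _ hmem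
    | zero => rw [map_zero]; exact Submodule.zero_mem _
    | add a b _ _ ha hb => rw [map_add]; exact Submodule.add_mem _ ha hb
    | smul c a _ ha => rw [map_smul]; exact Submodule.smul_mem _ _ ha
  · intro v hv
    refine yy_fix hj h2 fun s => hv s _ (Submodule.subset_span ⟨⟨i, hi⟩, ?_, ?_, rfl⟩)
    · show 1 * i ≤ i
      omega
    · show i < 1 * (i + 1)
      omega

variable {Y : Type*} [Group Y] (M : Model Fr Y)

/-- **`e = 1`** : the block elements -/
theorem exists_blkEl_one [Fintype F] {r : ℕ} (hA : AmbT Fr r M.I) {p : ℕ} [hp : Fact p.Prime]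
    (he : orderOf (Fintype.card F : ZMod p) = 1) {k : ℕ} (hσ : ∀ a, H.σ a = a ^ k) (hk : ¬ p ∣ 1 + k) (hm : 2 ≤ m)
    {i : ℕ} (hi : i < m) : ∃ y : M.I, BlkEl Fr p 1 i y.1 := by
  classical
  -- an element of order `p`
  have h1 : p ∣ Fintype.card Fˣ := by
    rw [Fintype.card_units]
    have h2 : (Fintype.card F : ZMod p) = 1 := orderOf_eq_one_iff.1 he
    have h3 : (((Fintype.card F - 1 : ℕ)) : ZMod p) = 0 := by
      rw [Nat.cast_sub Fintype.card_pos, h2, Nat.cast_one, sub_self]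
    exact (ZMod.natCast_eq_zero_iff _ _).1 h3
  obtain ⟨u, hu⟩ := exists_prime_orderOf_dvd_card p h1
  have h2 : (u : F) ≠ 0 := u.ne_zero
  have h3 : ((u : F) * H.σ u) = ((u ^ (1 + k) : Fˣ) : F) := by
    rw [hσ, Units.val_pow_eq_pow_val]
    ring
  have h4 : ((u : F) * H.σ u) ^ p = 1 := by
    rw [h3, ← Units.val_pow_eq_pow_val, ← pow_mul, mul_comm, pow_mul, ← hu, pow_orderOf_eq_one, one_pow, Units.val_one]
  have h5 : ((u : F) * H.σ u) ≠ 1 := by
    rw [h3]
    intro h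
    have h6 : u ^ (1 + k) = 1 := Units.ext h
    have h7 := orderOf_dvd_of_pow_eq_one h6
    rw [hu] at h7
    exact hk h7
  obtain ⟨y, h6, h7, h8, h9, h10, h11⟩ := exists_blkOne M hm ⟨i, hi⟩ h2 h4 h5
  refine ⟨y, BlkEl.of hA (congrArg Subtype.val h6) (fun h => h7 (Subtype.ext h)) ?_ ?_ h11⟩
  · intro s v hv
    unfold Mb at hv ⊢
    induction hv using Submodule.span_induction with
    | mem v hv =>
      obtain ⟨j, hj1, hj2, rfl⟩ := hv
      have hj : j = ⟨i, hi⟩ := Fin.ext (by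
        show (j : ℕ) = i
        omega)
      subst hj
      have hmem : Fr.b (⟨i, hi⟩, s) ∈ Submodule.span F
          {v | ∃ k : Fin m, 1 * i ≤ (k : ℕ) ∧ (k : ℕ) < 1 * (i + 1) ∧ v = Fr.b (k, s)} :=
        Submodule.subset_span ⟨⟨i, hi⟩, hj1, hj2, rfl⟩
      cases s
      · rw [h9]
        exact Submodule.smul_mem _ _ hmem
      · rw [h8]
        exact Submodule.smul_mem _ _ hmem
    | zero => rw [map_zero]; exact Submodule.zero_mem _
    | add a b _ _ ha hb => rw [map_add]; exact Submodule.add_mem _ ha hb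
    | smul c a _ ha => rw [map_smul]; exact Submodule.smul_mem _ _ ha
  · intro j s hj
    refine h10 (j, s) fun h => ?_
    have h12 : (j : ℕ) = i := congrArg Fin.val h
    omega

end Cfsg.Agent.H674.XZ.Blk
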