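import Cfsg.Agent.H754.XZ.BlkOrb
import Cfsg.Agent.H674.XZ.BlkOneB

/-!
# S4791 + S4927, linear primes : the block elements of a Witt model (helper674)
-/

set_option autoImplicit false
set_option linter.unusedSectionVars false

open Cfsg

namespace Cfsg.Agent.H674.XZ.Blk

open Cfsg.Agent.Nodes Cfsg.Agent.Nodes.WittAll Cfsg.Agent.H754.XZ
open Cfsg.Agent.TitsThree.Siegel Cfsg.Agent.TitsThree.WittFrame Cfsg.Agent.TitsThree.WittWeyl
  Cfsg.Agent.TitsThree.FrameCN Cfsg.Agent.H967.XZ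

variable {F : Type*} [Field F] {V : Type*} [AddCommGroup V] [Module F V] {H : HForm F V} {m : ℕ} {Fr : Frame H (Fin m)}

/-- **`e ≥ 2`** : the block elements, any group which contains the root elements `X x y t` -/
theorem exists_blkEl_big [Fintype F] [Finite V] {I : Subgroup (V ≃ₗ[F] V)} {r : ℕ} (hA : AmbT Fr r I)
    {p e : ℕ} [hp : Fact p.Prime] (he : orderOf (Fintype.card F : ZMod p) = e) (he1 : 1 < e) {i : ℕ} (hi : e * (i + 1) ≤ m) :
    ∃ y : I, BlkEl Fr p e i y.1 := by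
  have h1 : p ∣ Nat.card F ^ (e * (i + 1) - e * i) - 1 := by
    have h2 : e * (i + 1) - e * i = e := by
      rw [Nat.mul_succ, Nat.add_sub_cancel_left]
    have h3 : (Fintype.card F : ZMod p) ^ e = 1 := by rw [← he, pow_orderOf_eq_one]
    rw [h2, Nat.card_eq_fintype_card, ← ZMod.natCast_eq_zero_iff, Nat.cast_sub (Nat.one_le_pow _ _ Fintype.card_pos),
      Nat.cast_pow, h3, Nat.cast_one, sub_self]
  obtain ⟨y, hy, hyp, hy1⟩ := exists_order (Fr := Fr) (lo := e * i) (hi := e * (i + 1)) (p := p)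
    (by rw [Nat.mul_succ]; omega) hi h1
  have hI : GA Fr (e * i) (e * (i + 1)) ≤ I := by
    refine (Subgroup.closure_le _).2 ?_
    rintro _ ⟨a, b, -, -, -, -, -, t, rfl⟩
    exact hA.X_mem _ _ _
  refine ⟨⟨y, hI hy⟩, BlkEl.of hA hyp hy1 (fun s v hv => ?_) (fun k s hk => GA_fix_b hy k s hk) fun v hv => GA_fix_V0 hy hv⟩
  exact (GA_StE hy s v).2 hv

/-- **the block elements**, any `e` -/
theorem exists_blk [Fintype F] [Finite V] {Y : Type*} [Group Y] (M : Model Fr Y) {r : ℕ} (hA : AmbT Fr r M.I)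
    {p e w t : ℕ} [Fact p.Prime] (he : orderOf (Fintype.card F : ZMod p) = e)
    (hσ : ∀ a, H.σ a = a ^ (r ^ t)) (hlin : ∀ j, ¬ p ∣ Fintype.card F ^ j + r ^ t) (hm : 2 ≤ m) (he0 : 0 < e)
    (hw : e * w ≤ m) : ∀ i < w, ∃ y : M.I, BlkEl Fr p e i y.1 := by
  intro i hi
  have h2 : e * (i + 1) ≤ e * w := Nat.mul_le_mul_left e hi
  rcases Nat.lt_or_ge 1 e with h1 | h1
  · exact exists_blkEl_big hA he h1 (h2.trans hw)
  · have h3 : e = 1 := by omega
    subst h3
    have h4 : ¬ p ∣ 1 + r ^ t := by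
      have := hlin 0
      rwa [pow_zero] at this
    exact exists_blkEl_one M hA he hσ h4 hm (by omega)

end Cfsg.Agent.H674.XZ.Blk
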