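import Cfsg.Agent.TitsThree.WittWeyl
import Cfsg.Agent.TitsThree.FrameCN

/-!
# S4791 + S4927, linear primes: an element of order `p` in a block of size one (helper674)

`hX Fr x y t = nX x y t (nX x y 1)⁻¹` : `b x ↦ t b x`, `b (-y) ↦ t⁻¹ b (-y)`, `b y ↦ σ t b y`, `b (-x) ↦ (σ t)⁻¹ b (-x)`.

* `exists_blkOne` : `μ σ(μ)` of order `p`: an element `y` of order `p` with `y b(i,true) = μ σ(μ) b(i,true)`,
  `y b(i,false) = (μ σ(μ))⁻¹ b(i,false)`, trivial on the other vectors of the frame and on `V0`.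
-/

set_option autoImplicit false
set_option linter.unusedSectionVars false

namespace Cfsg.Agent.H674.XZ.Blk

open Cfsg.Agent.TitsThree.Siegel Cfsg.Agent.TitsThree.WittFrame Cfsg.Agent.TitsThree.WittWeyl
  Cfsg.Agent.TitsThree.FrameCN

section frame

variable {F : Type*} [Field F] {V : Type*} [AddCommGroup V] [Module F V] {H : HForm F V}
  {ι : Type*} [DecidableEq ι] (Fr : Frame H ι)

/-- the torus element -/
noncomputable def hX (x y : ι × Bool) (t : F) : V ≃ₗ[F] V := nX Fr x y t * (nX Fr x y 1)⁻¹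

variable {Fr}

theorem inv_smul_of {g : V ≃ₗ[F] V} {u v : V} {c : F} (hc : c ≠ 0) (h : g u = c • v) : g⁻¹ v = c⁻¹ • u := by
  have h1 : g⁻¹ (g u) = u := g.symm_apply_apply u
  rw [h, map_smul] at h1
  rw [← h1, smul_smul, inv_mul_cancel₀ hc, one_smul]

theorem hX_x {x y : ι × Bool} (h : x.1 ≠ y.1) {t : F} (ht : t ≠ 0) : hX Fr x y t (Fr.b x) = t • Fr.b x := by
  have h1 : (nX Fr x y 1)⁻¹ (Fr.b x) = Fr.b (neg y) := by
    have h2 := inv_smul_of (one_ne_zero) (nX_apply_neg Fr h (t := (1 : F)) one_ne_zero)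
    rw [inv_one, one_smul] at h2
    exact h2
  unfold hX
  rw [mul_apply', h1, nX_apply_neg Fr h ht]

theorem hX_neg_y {x y : ι × Bool} (h : x.1 ≠ y.1) {t : F} (ht : t ≠ 0) :
    hX Fr x y t (Fr.b (neg y)) = t⁻¹ • Fr.b (neg y) := by
  have h1 : (nX Fr x y 1)⁻¹ (Fr.b (neg y)) = -Fr.b x := by
    have h0 := nX_apply_self Fr h (t := (1 : F)) one_ne_zero
    rw [inv_one, ← neg_smul] at h0
    have h2 := inv_smul_of (neg_ne_zero.2 one_ne_zero) h0
    rw [inv_neg, inv_one, neg_smul, one_smul] at h2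
    exact h2
  unfold hX
  rw [mul_apply', h1, map_neg, nX_apply_self Fr h ht, _root_.neg_neg]

theorem hX_y {x y : ι × Bool} (h : x.1 ≠ y.1) {t : F} (ht : t ≠ 0) : hX Fr x y t (Fr.b y) = H.σ t • Fr.b y := by
  have hc : H.ε⁻¹ * Fr.η x * Fr.η y ≠ 0 := mul_ne_zero (mul_ne_zero (inv_ne_zero H.ε_ne) (Fr.η_ne _)) (Fr.η_ne _)
  have h1 : (nX Fr x y 1)⁻¹ (Fr.b y) = -((H.ε⁻¹ * Fr.η x * Fr.η y)⁻¹ • Fr.b (neg x)) := by
    have h0 := nX_apply_neg' Fr h (t := (1 : F)) one_ne_zero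
    rw [map_one, mul_one, ← neg_smul] at h0
    have h2 := inv_smul_of (neg_ne_zero.2 hc) h0
    rw [inv_neg, neg_smul] at h2
    exact h2
  unfold hX
  rw [mul_apply', h1, map_neg, map_smul, nX_apply_neg' Fr h ht, smul_neg, _root_.neg_neg, smul_smul, ← mul_assoc,
    inv_mul_cancel₀ hc, one_mul]

theorem hX_neg_x {x y : ι × Bool} (h : x.1 ≠ y.1) {t : F} (ht : t ≠ 0) :
    hX Fr x y t (Fr.b (neg x)) = (H.σ t)⁻¹ • Fr.b (neg x) := by
  have hc : H.ε⁻¹ * Fr.η x * Fr.η y ≠ 0 := mul_ne_zero (mul_ne_zero (inv_ne_zero H.ε_ne) (Fr.η_ne _)) (Fr.η_ne _)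
  have h1 : (nX Fr x y 1)⁻¹ (Fr.b (neg x)) = (H.ε⁻¹ * Fr.η x * Fr.η y) • Fr.b y := by
    have h0 := nX_apply_self' Fr h (t := (1 : F)) one_ne_zero
    rw [map_one, mul_one] at h0
    have h2 := inv_smul_of (inv_ne_zero hc) h0
    rwa [inv_inv] at h2
  unfold hX
  rw [mul_apply', h1, map_smul, nX_apply_self' Fr h ht, smul_smul, mul_inv, ← mul_assoc, mul_inv_cancel₀ hc, one_mul]

/-- vectors orthogonal to the two hyperbolic planes -/
theorem nX_orth {x y : ι × Bool} (h : x.1 ≠ y.1) {v : V} (hv : ∀ z : ι × Bool, z.1 = x.1 ∨ z.1 = y.1 → H.h v (Fr.b z) = 0)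
    (t : F) : nX Fr x y t v = v := by
  have e1 : ∀ s, Fr.X x y s v = v := fun s => by
    rw [X_apply Fr h, hv x (Or.inl rfl), hv y (Or.inr rfl)]
    simp
  have e2 : ∀ s, Fr.X (neg y) (neg x) s v = v := fun s => by
    rw [X_apply Fr (x := neg y) (y := neg x) h.symm, hv (neg x) (Or.inl rfl), hv (neg y) (Or.inr rfl)]
    simp
  rw [nX, mul_apply', mul_apply', e1, e2, e1]

theorem hX_orth {x y : ι × Bool} (h : x.1 ≠ y.1) {v : V} (hv : ∀ z : ι × Bool, z.1 = x.1 ∨ z.1 = y.1 → H.h v (Fr.b z) = 0)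
    (t : F) : hX Fr x y t v = v := by
  have h1 : (nX Fr x y 1)⁻¹ v = v := by
    conv_lhs => rw [← nX_orth h hv 1]
    exact (nX Fr x y 1).symm_apply_apply v
  unfold hX
  rw [mul_apply', h1, nX_orth h hv]

variable (Fr) in
/-- the element -/
noncomputable def yy (i j : ι) (t : F) : V ≃ₗ[F] V := hX Fr (i, true) (j, false) t * hX Fr (i, true) (j, true) (H.σ t)

theorem yy_true {i j : ι} (h : i ≠ j) {t : F} (ht : t ≠ 0) :
    yy Fr i j t (Fr.b (i, true)) = (t * H.σ t) • Fr.b (i, true) := by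
  have hs : H.σ t ≠ 0 := by simpa using ht
  unfold yy
  rw [mul_apply', hX_x (x := (i, true)) (y := (j, true)) h hs, map_smul, hX_x (x := (i, true)) (y := (j, false)) h ht, smul_smul,
    mul_comm]

theorem yy_false {i j : ι} (h : i ≠ j) {t : F} (ht : t ≠ 0) :
    yy Fr i j t (Fr.b (i, false)) = (t * H.σ t)⁻¹ • Fr.b (i, false) := by
  have hs : H.σ t ≠ 0 := by simpa using ht
  have h1 := hX_neg_x (Fr := Fr) (x := (i, true)) (y := (j, true)) h hs
  have h2 := hX_neg_x (Fr := Fr) (x := (i, true)) (y := (j, false)) h ht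
  have e : neg ((i, true) : ι × Bool) = (i, false) := rfl
  rw [e] at h1 h2
  unfold yy
  rw [mul_apply', h1, map_smul, h2, smul_smul, H.σσ, mul_inv]

theorem yy_j_true {i j : ι} (h : i ≠ j) {t : F} (ht : t ≠ 0) : yy Fr i j t (Fr.b (j, true)) = Fr.b (j, true) := by
  have hs : H.σ t ≠ 0 := by simpa using ht
  have h1 := hX_y (Fr := Fr) (x := (i, true)) (y := (j, true)) h hs
  have h2 := hX_neg_y (Fr := Fr) (x := (i, true)) (y := (j, false)) h ht
  have e : neg ((j, false) : ι × Bool) = (j, true) := rfl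
  rw [e] at h2
  unfold yy
  rw [mul_apply', h1, map_smul, h2, smul_smul, H.σσ, mul_inv_cancel₀ ht, one_smul]

theorem yy_j_false {i j : ι} (h : i ≠ j) {t : F} (ht : t ≠ 0) : yy Fr i j t (Fr.b (j, false)) = Fr.b (j, false) := by
  have hs : H.σ t ≠ 0 := by simpa using ht
  have h1 := hX_neg_y (Fr := Fr) (x := (i, true)) (y := (j, true)) h hs
  have h2 := hX_y (Fr := Fr) (x := (i, true)) (y := (j, false)) h ht
  have e : neg ((j, true) : ι × Bool) = (j, false) := rfl
  rw [e] at h1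
  unfold yy
  rw [mul_apply', h1, map_smul, h2, smul_smul, inv_mul_cancel₀ hs, one_smul]

theorem yy_orth {i j : ι} (h : i ≠ j) {v : V} (hv : ∀ z : ι × Bool, z.1 = i ∨ z.1 = j → H.h v (Fr.b z) = 0)
    (t : F) : yy Fr i j t v = v := by
  unfold yy
  rw [mul_apply', hX_orth (x := (i, true)) (y := (j, true)) h hv, hX_orth (x := (i, true)) (y := (j, false)) h hv]

theorem yy_of_ne {i j : ι} (h : i ≠ j) {t : F} (ht : t ≠ 0) {z : ι × Bool} (hz : z.1 ≠ i) : yy Fr i j t (Fr.b z) = Fr.b z := by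
  by_cases hj : z.1 = j
  · obtain ⟨k, s⟩ := z
    simp only at hj
    subst hj
    cases s
    · exact yy_j_false h ht
    · exact yy_j_true h ht
  · refine yy_orth h (fun z' hz' => ?_) t
    refine Fr.hb_of_ne fun e => ?_
    rcases hz' with h1 | h1
    · exact hz (e.trans h1)
    · exact hj (e.trans h1)

theorem yy_V0 {i j : ι} (h : i ≠ j) {v : V} (hv : v ∈ Fr.V0) (t : F) : yy Fr i j t v = v :=
  yy_orth h (fun z _ => Fr.h0' z hv) t

theorem pow_smul_of {g : V ≃ₗ[F] V} {u : V} {c : F} (h : g u = c • u) (n : ℕ) : (g ^ n) u = c ^ n • u := by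
  induction n with
  | zero => rw [pow_zero, pow_zero, one_smul]; rfl
  | succ n ih => rw [pow_succ', mul_apply', ih, map_smul, h, smul_smul, pow_succ]

/-- the element has order dividing `n` -/
theorem yy_pow {i j : ι} (h : i ≠ j) {t : F} (ht : t ≠ 0) {n : ℕ} (hn : (t * H.σ t) ^ n = 1) : yy Fr i j t ^ n = 1 := by
  apply LinearEquiv.ext
  intro v
  -- decomposition
  set g := yy Fr i j t
  have hfix : ∀ w, g w = w → (g ^ n) w = w := by
    intro w hw
    have h1 := pow_smul_of (g := g) (u := w) (c := 1) (by rw [one_smul]; exact hw) n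
    rwa [one_pow, one_smul] at h1
  set P : V := ∑ z ∈ ({(i, true), (i, false), (j, true), (j, false)} : Finset (ι × Bool)),
    (H.h v (Fr.b (neg z)) * (Fr.η (neg z))⁻¹) • Fr.b z with hP
  have h1 : (g ^ n) P = P := by
    rw [hP, map_sum]
    refine Finset.sum_congr rfl fun z hz => ?_
    rw [map_smul]
    congr 1
    rcases eq_or_ne z.1 i with h1 | h1
    · obtain ⟨k, s⟩ := z
      simp only at h1
      subst h1
      cases s
      · have h2 := pow_smul_of (yy_false h ht (Fr := Fr)) n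
        rw [inv_pow, hn, inv_one, one_smul] at h2
        exact h2
      · have h2 := pow_smul_of (yy_true h ht (Fr := Fr)) n
        rw [hn, one_smul] at h2
        exact h2
    · exact hfix _ (yy_of_ne h ht h1)
  have hnegmem : ∀ z : ι × Bool, z.1 = i ∨ z.1 = j →
      neg z ∈ ({(i, true), (i, false), (j, true), (j, false)} : Finset (ι × Bool)) := by
    rintro ⟨k, s⟩ hz
    simp only at hz
    simp only [Finset.mem_insert, Finset.mem_singleton, neg, Prod.mk.injEq]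
    rcases hz with rfl | rfl <;> cases s <;> simp
  have h2 : ∀ z : ι × Bool, z.1 = i ∨ z.1 = j → H.h (v - P) (Fr.b z) = 0 := by
    intro z hz
    rw [H.sub_left, sub_eq_zero]
    have h3 : H.h P (Fr.b z) = ∑ z' ∈ ({(i, true), (i, false), (j, true), (j, false)} : Finset (ι × Bool)),
        (H.h v (Fr.b (neg z')) * (Fr.η (neg z'))⁻¹) * H.h (Fr.b z') (Fr.b z) := by
      rw [hP]
      have : ∀ (s : Finset (ι × Bool)) (c : ι × Bool → F), H.h (∑ z' ∈ s, c z' • Fr.b z') (Fr.b z) =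
          ∑ z' ∈ s, c z' * H.h (Fr.b z') (Fr.b z) := by
        intro s c
        induction s using Finset.induction_on with
        | empty => rw [Finset.sum_empty, Finset.sum_empty, H.zero_left]
        | insert a s ha ih => rw [Finset.sum_insert ha, Finset.sum_insert ha, H.add_left, H.smul_left, ih]
      exact this _ _
    rw [h3, Finset.sum_eq_single (neg z)]
    · rw [Cfsg.Agent.TitsThree.WittFrame.neg_neg, Fr.hb_neg_self, mul_assoc, inv_mul_cancel₀ (Fr.η_ne _), mul_one]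
    · intro z' _ hne
      rw [Fr.hb_ne, mul_zero]
      intro e
      apply hne
      rw [e, Cfsg.Agent.TitsThree.WittFrame.neg_neg]
    · intro hcon
      exact absurd (hnegmem z hz) hcon
  have h3 : (g ^ n) (v - P) = v - P := hfix _ (yy_orth h h2 t)
  have h4 : v = P + (v - P) := by abel
  show (g ^ n) v = v
  conv_lhs => rw [h4]
  rw [map_add, h1, h3, ← h4]

end frame

section model

variable {F : Type*} [Field F] {V : Type*} [AddCommGroup V] [Module F V] {H : HForm F V} {m : ℕ} {Fr : Frame H (Fin m)}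
  {Y : Type*} [Group Y] (M : Model Fr Y)

theorem hX_mem (x y : Fin m × Bool) (t : F) : hX Fr x y t ∈ M.I := by
  unfold hX nX
  exact M.I.mul_mem (M.I.mul_mem (M.I.mul_mem (M.hX _ _ _) (M.hX _ _ _)) (M.hX _ _ _))
    (M.I.inv_mem (M.I.mul_mem (M.I.mul_mem (M.hX _ _ _) (M.hX _ _ _)) (M.hX _ _ _)))

theorem yy_mem (i j : Fin m) (t : F) : yy Fr i j t ∈ M.I := M.I.mul_mem (hX_mem M _ _ _) (hX_mem M _ _ _)

/-- **Blocks of size one** -/
theorem exists_blkOne {p : ℕ} (hm : 2 ≤ m) (i : Fin m) {t : F} (ht : t ≠ 0) (h1 : (t * H.σ t) ^ p = 1)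
    (h2 : t * H.σ t ≠ 1) : ∃ y : M.I, y ^ p = 1 ∧ y ≠ 1 ∧ y.1 (Fr.b (i, true)) = (t * H.σ t) • Fr.b (i, true) ∧
      y.1 (Fr.b (i, false)) = (t * H.σ t)⁻¹ • Fr.b (i, false) ∧
      (∀ z : Fin m × Bool, z.1 ≠ i → y.1 (Fr.b z) = Fr.b z) ∧ ∀ v ∈ Fr.V0, y.1 v = v := by
  obtain ⟨j, hj⟩ : ∃ j : Fin m, i ≠ j := by
    rcases Nat.eq_zero_or_pos (i : ℕ) with h | h
    · exact ⟨⟨1, by omega⟩, fun e => by have := congrArg Fin.val e; simp at this; omega⟩
    · exact ⟨⟨0, by omega⟩, fun e => by have := congrArg Fin.val e; simp at this; omega⟩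
  refine ⟨⟨yy Fr i j t, yy_mem M i j t⟩, Subtype.ext (yy_pow hj ht h1), fun h3 => h2 ?_, yy_true hj ht, yy_false hj ht,
    fun z hz => yy_of_ne hj ht hz, fun v hv => yy_V0 hj hv t⟩
  have h4 : yy Fr i j t (Fr.b (i, true)) = Fr.b (i, true) := by
    have h5 := congrArg Subtype.val h3
    have h6 := congrArg (fun g : V ≃ₗ[F] V => g (Fr.b (i, true))) h5
    exact h6
  rw [yy_true hj ht] at h4
  have h5 := congrArg (fun v => H.h v (Fr.b (i, false))) h4
  simp only [H.smul_left] at h5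
  have h6 : H.h (Fr.b (i, true)) (Fr.b (i, false)) ≠ 0 := by
    have h7 := Fr.hb_self_neg (i, true)
    have e : neg ((i, true) : Fin m × Bool) = (i, false) := rfl
    rw [e] at h7
    rw [h7]
    exact Fr.η_ne _
  have h8 : (t * H.σ t - 1) * H.h (Fr.b (i, true)) (Fr.b (i, false)) = 0 := by
    rw [sub_mul, one_mul, h5, sub_self]
  exact sub_eq_zero.1 ((mul_eq_zero.1 h8).resolve_right h6)

end model

end Cfsg.Agent.H674.XZ.Blk
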