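import Cfsg.Agent.H674.XZ.CycB
import Cfsg.Agent.H563.XZ.Five

/-!
# S4791, cyclic Sylow subgroups, part C: the structure of `N_G(P)` in the case of equality (helper674)
-/

set_option autoImplicit false

open scoped ComplexConjugate

namespace Cfsg.Agent.H674.XZ

open Cfsg Cfsg.Agent.Characters Cfsg.Agent.Characters.Core Subgroup Cfsg.Agent.Blocks.Local Cfsg.Agent.H145.BR
  Cfsg.Agent.H667.BR

universe u v

variable {p : ℕ} [hp : Fact p.Prime] {M : Ideal AlgInt} {G : Type u} [Group G] [Finite G]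

omit [Finite G] in
theorem le_centralizer_of_cyclic {P : Subgroup G} (hc : IsCyclic P) : P ≤ centralizer (P : Set G) := fun x hx =>
  mem_centralizer_iff.2 fun y hy =>
    congrArg Subtype.val ((IsCyclic.commGroup (α := P)).mul_comm ⟨y, hy⟩ ⟨x, hx⟩)

omit hp [Finite G] in
theorem normal_centralizer (P : Subgroup G) :
    ((centralizer (P : Set G)).subgroupOf (normalizer (P : Set G))).Normal := by
  refine ⟨fun a ha t => ?_⟩
  rw [mem_subgroupOf] at ha ⊢
  exact conj_mem_centralizer _ t.2 _ ha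

theorem card_normalizer_of_self (P : Sylow p G) (hs : centralizer ((P : Subgroup G) : Set G) = (P : Subgroup G)) :
    Nat.card (normalizer ((P : Subgroup G) : Set G)) = Nat.card (P : Subgroup G) * ee (P : Subgroup G) := by
  unfold ee
  rw [hs, ← ((P : Subgroup G).subgroupOf (normalizer ((P : Subgroup G) : Set G))).card_mul_index,
    Nat.card_congr (subgroupOfEquivOfLe (le_normalizer (H := (P : Subgroup G)))).toEquiv]
  rfl

theorem not_dvd_ee (P : Sylow p G) (hc : IsCyclic (P : Subgroup G)) : ¬ p ∣ ee (P : Subgroup G) := by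
  intro h
  refine P.not_dvd_index (h.trans ?_)
  unfold ee
  exact (relIndex_dvd_of_le_left _ (le_centralizer_of_cyclic hc)).trans (relIndex_dvd_index_of_le le_normalizer)

/-- the complement -/
theorem exists_compl (P : Sylow p G) (hc : IsCyclic (P : Subgroup G)) (hd : p ∣ Nat.card G)
    (hs : centralizer ((P : Subgroup G) : Set G) = (P : Subgroup G)) :
    ∃ C : Subgroup G, C ≤ normalizer ((P : Subgroup G) : Set G) ∧ IsCyclic C ∧ Nat.card C = ee (P : Subgroup G) ∧
      C ⊓ (P : Subgroup G) = ⊥ ∧ (∀ h ∈ C, h ≠ 1 → ∀ x ∈ (P : Subgroup G), x ≠ 1 → h * x * h⁻¹ ≠ x) := by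
  set N := normalizer ((P : Subgroup G) : Set G) with hN
  set Q : Subgroup N := (P : Subgroup G).subgroupOf N with hQ
  have hPN : (P : Subgroup G) ≤ N := le_normalizer
  have hQn : Q.Normal := by
    have := normal_centralizer (P : Subgroup G)
    rwa [hs] at this
  have hcard : Nat.card Q = Nat.card (P : Subgroup G) := Nat.card_congr (subgroupOfEquivOfLe hPN).toEquiv
  have hidx : Q.index = ee (P : Subgroup G) := by
    unfold ee
    rw [hs]
    rfl
  have hcop : Nat.Coprime (Nat.card Q) Q.index := by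
    rw [hcard, hidx]
    obtain ⟨a, ha⟩ := IsPGroup.iff_card.1 P.2
    rw [ha]
    exact Nat.Coprime.pow_left _ ((Nat.Prime.coprime_iff_not_dvd hp.out).2 (not_dvd_ee P hc))
  obtain ⟨K, hK⟩ := exists_right_complement'_of_coprime hcop
  have hdis : Disjoint Q K := hK.disjoint
  have hcK : Nat.card K = ee (P : Subgroup G) := by
    have h1 := hK.card_mul_card
    have h2 := card_normalizer_of_self P hs
    rw [← hN, ← hcard] at h2
    rw [h2] at h1
    exact Nat.eq_of_mul_eq_mul_left Nat.card_pos h1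
  have hP1 : (P : Subgroup G) ≠ ⊥ := by
    obtain ⟨a, ha, h⟩ := exists_pow_card P hd
    intro h1
    rw [h1, card_bot] at h
    exact (Nat.one_lt_pow (by omega) hp.out.one_lt).ne h
  have hm : ¬ p ∣ (centralizer ((P : Subgroup G) : Set G)).relIndex N := not_dvd_ee P hc
  have hcn := normal_centralizer (P : Subgroup G)
  obtain ⟨h1, -⟩ := Cfsg.Agent.H641.isCyclic_quotient_and_dvd hp.out P.2 hP1 hc le_rfl (centralizer_le_normalizer _) hm
  refine ⟨K.map N.subtype, map_subtype_le K, ?_, ?_, ?_, ?_⟩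
  · have h2 : IsCyclic K := by
      refine isCyclic_of_injective
        ((QuotientGroup.mk' ((centralizer ((P : Subgroup G) : Set G)).subgroupOf N)).comp K.subtype) ?_
      rw [injective_iff_map_eq_one]
      intro k hk
      have h3 : (k : N) ∈ Q := by
        have h4 := (QuotientGroup.eq_one_iff (k : N)).1 hk
        rw [mem_subgroupOf, hs] at h4
        exact h4
      exact Subtype.ext (disjoint_def.1 hdis h3 k.2)
    exact isCyclic_of_surjective (K.equivMapOfInjective N.subtype N.subtype_injective).toMonoidHom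
      (K.equivMapOfInjective N.subtype N.subtype_injective).surjective
  · rw [← hcK]
    exact (Nat.card_congr (K.equivMapOfInjective N.subtype N.subtype_injective).toEquiv).symm
  · rw [eq_bot_iff]
    rintro x ⟨⟨k, hk, rfl⟩, hx⟩
    have h3 : k ∈ Q := mem_subgroupOf.2 hx
    rw [mem_bot, disjoint_def.1 hdis h3 hk, map_one]
  · rintro h ⟨k, hk, rfl⟩ hk1 x hx hx1 hfix
    apply hk1
    have h3 := Cfsg.Agent.H641.mem_centralizer_of_relIndex hp.out P.2 hc (T := N) le_rfl (centralizer_le_normalizer _) hm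
      k.2 hx hx1 hfix
    rw [hs] at h3
    rw [disjoint_def.1 hdis (mem_subgroupOf.2 h3) hk, map_one]

/-- **The case of equality.** -/
theorem struct_of_eq (hM : IsPModular p M) (P : Sylow p G) (hc : IsCyclic (P : Subgroup G)) (hd : p ∣ Nat.card G)
    (h : xx p G ^ 2 = 4 * (p - 1)) :
    ∃ s : ℕ, s ^ 2 = p - 1 ∧
      Nat.card (normalizer ((P : Subgroup G) : Set G)) = Nat.card (P : Subgroup G) * s ∧
      ∃ C : Subgroup G, C ≤ normalizer ((P : Subgroup G) : Set G) ∧ IsCyclic C ∧ Nat.card C = s ∧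
        C ⊓ (P : Subgroup G) = ⊥ ∧ ∀ h ∈ C, h ≠ 1 → ∀ x ∈ (P : Subgroup G), x ≠ 1 → h * x * h⁻¹ ≠ x := by
  obtain ⟨x, hx⟩ := exists_x hM P hc hd
  have h1 := le_x0_cyclic hM P hc hd hx
  have h2 := x0_le_xx (p := p) (M := M) (G := G)
  have h3 := amgm (ee (P : Subgroup G)) x
  rw [hx] at h
  have h4 : (ee (P : Subgroup G) + x) ^ 2 = xx p G ^ 2 :=
    le_antisymm (Nat.pow_le_pow_left (h1.trans h2) 2) (by rw [h]; exact h3)
  have h5 : ee (P : Subgroup G) + x = xx p G := Nat.pow_left_injective (n := 2) (by norm_num) h4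
  have h6 : ee (P : Subgroup G) = x := by
    rw [h] at h4
    have h7 : ((ee (P : Subgroup G) : ℤ) - x) ^ 2 = 0 := by
      have h8 : ((ee (P : Subgroup G) : ℤ) + x) ^ 2 = 4 * (ee (P : Subgroup G) * x) := by exact_mod_cast h4
      linear_combination h8
    have h8 := pow_eq_zero_iff (two_ne_zero) |>.1 h7
    omega
  have h7 : IsPGroup p (centralizer ((P : Subgroup G) : Set G)) := centralizer_le_of_subset hM P fun χ hχ1 hχ2 =>
    (Cfsg.Agent.H563.XZ.mem0_of_eq (by omega) hχ1 hχ2).1
  have hs : centralizer ((P : Subgroup G) : Set G) = (P : Subgroup G) :=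
    P.is_maximal' h7 (le_centralizer_of_cyclic hc)
  obtain ⟨C, hC1, hC2, hC3, hC4, hC5⟩ := exists_compl P hc hd hs
  refine ⟨ee (P : Subgroup G), ?_, card_normalizer_of_self P hs, C, hC1, hC2, hC3, hC4, hC5⟩
  rw [hx, ← h6, sq]

end Cfsg.Agent.H674.XZ
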