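import Cfsg.Agent.H674.XZ.CycC
import Cfsg.Agent.H867.KBound
import Cfsg.Agent.H729.CharTwoBlock

/-!
# S4791, cyclic Sylow subgroups, part D: the other direction (helper674)

* `mem_principal` : `C_G(P)` a `p`-group: all irreducible characters of degree prime to `p` are in the principal block;
* `card_JJ` : the order of the group of exponents;
* `sum_sq_le`, `xx_le` : `P` cyclic and self-centralizing: at most `p` almost `p`-rational characters of degree prime to `p`;
* `cyclic_iff` : S4791 for cyclic Sylow subgroups.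
-/

set_option autoImplicit false

open scoped ComplexConjugate

namespace Cfsg.Agent.H674.XZ

open Cfsg Cfsg.Agent.Characters Cfsg.Agent.Characters.Core Subgroup Cfsg.Agent.Blocks.Local Cfsg.Agent.H145.BR
  Cfsg.Agent.H667.BR

universe u v

variable {p : ℕ} [hp : Fact p.Prime] {M : Ideal AlgInt} {G : Type u} [Group G] [Finite G]

/-- all the irreducible characters of degree prime to `p` are in the principal block if the centralizer of a Sylow subgroup is a
`p`-group -/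
theorem mem_principal (hM : IsPModular p M) (P : Sylow p G) (hC : IsPGroup p (centralizer ((P : Subgroup G) : Set G)))
    {χ : IrrCharacter G} (hχ : ¬ p ∣ charDegree (χ : G → ℂ)) : χ ∈ principalBlock M G := by
  have hMp := isPrime_of_isPModular hM
  have hB : IsPBlock M (blockOf M (χ : G → ℂ)) := ⟨χ, rfl⟩
  have hχB : χ ∈ blockOf M (χ : G → ℂ) := Blocks.Basic.mem_blockOf_self χ
  obtain ⟨D, hD⟩ := Cfsg.Agent.H729.CharTwoBlock.exists_isDefectGroup hM hB
  have hcard := S0908.result p M hM _ hB D hD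
  have h0 : (charDegree (χ : G → ℂ)).factorization p = 0 := Nat.factorization_eq_zero_of_not_dvd hχ
  have h1 : sInf ((fun χ : IrrCharacter G => (charDegree (χ : G → ℂ)).factorization p) '' blockOf M (χ : G → ℂ)) = 0 :=
    Nat.le_zero.1 (Nat.sInf_le ⟨χ, hχB, h0⟩)
  unfold blockDefect at hcard
  rw [h1, Nat.sub_zero] at hcard
  let Q : Sylow p G := Sylow.ofCard D hcard
  obtain ⟨g, hg⟩ := MulAction.exists_smul_eq G P Q
  have hDC : IsPGroup p (centralizer (D : Set G)) := by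
    intro c
    have h2 : g⁻¹ * c * g ∈ centralizer ((P : Subgroup G) : Set G) := by
      rw [mem_centralizer_iff]
      intro x hx
      have h3 : g * x * g⁻¹ ∈ D := by
        have h4 : g * x * g⁻¹ ∈ ((g • P : Sylow p G) : Subgroup G) := by
          rw [Sylow.coe_subgroup_smul]
          exact Subgroup.smul_mem_pointwise_smul x (MulAut.conj g) _ hx
        rw [hg] at h4
        exact h4
      have h5 := mem_centralizer_iff.1 c.2 _ h3
      calc x * (g⁻¹ * c * g) = g⁻¹ * ((g * x * g⁻¹) * c) * g := by group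
        _ = g⁻¹ * (c * (g * x * g⁻¹)) * g := by rw [h5]
        _ = g⁻¹ * c * g * x := by group
    obtain ⟨k, hk⟩ := hC ⟨_, h2⟩
    refine ⟨k, Subtype.ext ?_⟩
    have h3 : (g⁻¹ * (c : G) * g) ^ p ^ k = 1 := congrArg Subtype.val hk
    have h4 : (g⁻¹ * (c : G) * (g⁻¹)⁻¹) ^ p ^ k = 1 := by rwa [inv_inv]
    rw [conj_pow] at h4
    rw [Subgroup.coe_pow, Subgroup.coe_one]
    calc (c : G) ^ p ^ k = g * (g⁻¹ * (c : G) ^ p ^ k * (g⁻¹)⁻¹) * g⁻¹ := by group
      _ = 1 := by rw [h4]; group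
  rw [← Cfsg.Agent.H729.CharTwoBlock.eq_principal_of_centralizer hM hB hD hDC]
  exact hχB

/-- `x0 = xx` -/
theorem xx_eq_x0 (hM : IsPModular p M) (P : Sylow p G) (hC : IsPGroup p (centralizer ((P : Subgroup G) : Set G))) :
    xx p G = x0 p M G := by
  unfold xx x0
  refine Nat.card_congr (Equiv.subtypeEquivRight fun χ => ?_)
  exact ⟨fun h => ⟨mem_principal hM P hC h.1, h⟩, fun h => h.2⟩

/-! ### the group of exponents -/

theorem dd_eq (hd : p ∣ Nat.card G) : dd p G = p * mp p G := by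
  unfold dd
  have h1 := Nat.ordProj_mul_ordCompl_eq_self (Nat.card G) p
  have h2 : 1 ≤ (Nat.card G).factorization p := (hp.out.dvd_iff_one_le_factorization Nat.card_pos.ne').1 hd
  refine Nat.gcd_eq_right ?_
  conv_rhs => rw [← h1]
  exact mul_dvd_mul (dvd_pow_self p (by omega)) dvd_rfl

theorem le_card_JJ (hd : p ∣ Nat.card G) : p ^ ((Nat.card G).factorization p - 1) ≤ Nat.card (JJ p G) := by
  have : NeZero (Nat.card G) := ⟨(Nat.card_pos (α := G)).ne'⟩
  have hdd0 : dd p G ≠ 0 := fun h0 => (Nat.card_pos (α := G)).ne' (Nat.eq_zero_of_gcd_eq_zero_left h0)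
  have : NeZero (dd p G) := ⟨hdd0⟩
  set a := (Nat.card G).factorization p with ha
  have ha1 : 1 ≤ a := (hp.out.dvd_iff_one_le_factorization Nat.card_pos.ne').1 hd
  have h1 : Nat.card (ZMod (Nat.card G))ˣ ≤ Nat.card (JJ p G) * Nat.card (ZMod (dd p G))ˣ := by
    have h2 := (JJ p G).card_mul_index
    rw [← h2]
    refine Nat.mul_le_mul_left _ ?_
    unfold JJ
    rw [Subgroup.index_ker]
    exact Nat.card_le_card_of_injective (fun x => (x : (ZMod (dd p G))ˣ)) Subtype.val_injective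
  rw [Nat.card_eq_fintype_card, ZMod.card_units_eq_totient, Nat.card_eq_fintype_card (α := (ZMod (dd p G))ˣ),
    ZMod.card_units_eq_totient, dd_eq hd] at h1
  have hcop : (p ^ a).Coprime (mp p G) :=
    Nat.Coprime.pow_left _ ((Nat.Prime.coprime_iff_not_dvd hp.out).2 (not_dvd_mp hp.out G))
  have h3 : Nat.card G = p ^ a * mp p G := (Nat.ordProj_mul_ordCompl_eq_self (Nat.card G) p).symm
  have h5 : (Nat.card G).totient = p ^ (a - 1) * (p - 1) * (mp p G).totient := by
    have h6 := congrArg Nat.totient h3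
    rwa [Nat.totient_mul hcop, Nat.totient_prime_pow hp.out ha1] at h6
  rw [h5, Nat.totient_mul ((Nat.Prime.coprime_iff_not_dvd hp.out).2 (not_dvd_mp hp.out G)), Nat.totient_prime hp.out] at h1
  have h4 : 0 < (p - 1) * (mp p G).totient := by
    refine Nat.mul_pos ?_ (Nat.totient_pos.2 (Nat.pos_of_ne_zero fun h0 => not_dvd_mp hp.out G (h0 ▸ dvd_zero p)))
    have := hp.out.two_le
    omega
  refine Nat.le_of_mul_le_mul_right ?_ h4
  calc p ^ (a - 1) * ((p - 1) * (mp p G).totient) = p ^ (a - 1) * (p - 1) * (mp p G).totient := by ring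
    _ ≤ _ := h1

/-! ### generators of the Sylow subgroup -/

theorem zpowers_pow_ex {t : G} (u : (ZMod (Nat.card G))ˣ) : zpowers (t ^ ex u) = zpowers t := by
  refine le_antisymm (by rw [zpowers_le]; exact pow_mem (mem_zpowers t) _) ?_
  rw [zpowers_le]
  obtain ⟨j, hj⟩ := exists_pow_eq_self_of_coprime (x := t) (n := ex u)
    (Nat.Coprime.coprime_dvd_right (orderOf_dvd_natCard t) (ex_coprime u))
  have h1 : (t ^ ex u) ^ j ∈ zpowers (t ^ ex u) := pow_mem (mem_zpowers _) _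
  rwa [hj] at h1

/-- the conjugates of a generator under the group of exponents are not conjugate in `G` -/
theorem eq_of_isConj (hd : p ∣ Nat.card G) (P : Sylow p G) {t : G} (ht : zpowers t = (P : Subgroup G))
    {u v : (ZMod (Nat.card G))ˣ} (hu : u ∈ JJ p G) (hv : v ∈ JJ p G) (h : IsConj (t ^ ex u) (t ^ ex v)) : u = v := by
  have hc : IsCyclic (P : Subgroup G) := by
    rw [← ht]
    infer_instance
  obtain ⟨g, hg⟩ := isConj_iff.1 h
  have hPp : IsPGroup p (P : Subgroup G) := P.isPGroup'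
  obtain ⟨a, ha1, ha⟩ := exists_pow_card P hd
  have hot : orderOf t = p ^ a := by rw [← ha, ← ht, Nat.card_zpowers]
  -- `g` normalizes `P`
  have hgN : g ∈ normalizer ((P : Subgroup G) : Set G) := by
    have h1 : ∀ g' : G, ∀ u v : (ZMod (Nat.card G))ˣ, g' * t ^ ex u * g'⁻¹ = t ^ ex v → ∀ x ∈ (P : Subgroup G),
        g' * x * g'⁻¹ ∈ (P : Subgroup G) := by
      intro g' u v h' x hx
      rw [← ht, ← zpowers_pow_ex u, mem_zpowers_iff] at hx
      obtain ⟨k, rfl⟩ := hx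
      rw [← conj_zpow, h', ← ht]
      exact zpow_mem (pow_mem (mem_zpowers t) _) _
    rw [mem_normalizer_iff]
    intro x
    refine ⟨h1 g u v hg x, fun hx => ?_⟩
    have h2 := h1 g⁻¹ v u (by rw [← hg]; group) _ hx
    have h3 : g⁻¹ * (g * x * g⁻¹) * g⁻¹⁻¹ = x := by group
    rwa [h3] at h2
  -- the element of order `p`
  have hx0 : t ^ p ^ (a - 1) ≠ 1 := by
    intro h1
    have h2 := orderOf_dvd_of_pow_eq_one h1
    rw [hot] at h2
    have h3 := (Nat.pow_dvd_pow_iff_le_right hp.out.one_lt).1 h2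
    omega
  have hxp : (t ^ p ^ (a - 1)) ^ p = 1 := by
    rw [← pow_mul, ← pow_succ, Nat.sub_add_cancel ha1, ← hot, pow_orderOf_eq_one]
  have hpdd : p ∣ dd p G := by
    rw [dd_eq hd]
    exact dvd_mul_right _ _
  have hex : ∀ w ∈ JJ p G, (t ^ p ^ (a - 1)) ^ ex w = t ^ p ^ (a - 1) := by
    intro w hw
    have h1 : ex w ≡ 1 [MOD p] := ((mem_JJ (p := p) w).1 hw).of_dvd hpdd
    have h2 : ex w ≡ 1 [MOD orderOf (t ^ p ^ (a - 1))] := h1.of_dvd (orderOf_dvd_of_pow_eq_one hxp)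
    have h3 := pow_eq_pow_iff_modEq.2 h2
    rwa [pow_one] at h3
  have hgx : g * t ^ p ^ (a - 1) * g⁻¹ = t ^ p ^ (a - 1) := by
    have h1 : (g * t ^ ex u * g⁻¹) ^ p ^ (a - 1) = (t ^ ex v) ^ p ^ (a - 1) := by rw [hg]
    rw [conj_pow, ← pow_mul, mul_comm, pow_mul, ← pow_mul t (ex v), mul_comm (ex v), pow_mul, hex u hu, hex v hv] at h1
    exact h1
  have htP : t ∈ (P : Subgroup G) := by
    rw [← ht]
    exact mem_zpowers t
  have hgC := Cfsg.Agent.H641.mem_centralizer_of_relIndex hp.out P.2 hc (T := normalizer ((P : Subgroup G) : Set G)) le_rfl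
    (centralizer_le_normalizer _) (not_dvd_ee P hc) hgN (pow_mem htP _) hx0 hgx
  have h1 : t ^ ex u = t ^ ex v := by
    rw [← hg]
    have h2 := mem_centralizer_iff.1 hgC _ (pow_mem htP (ex u))
    rw [← h2]
    group
  -- hence `u = v`
  have h2 : ex u ≡ ex v [MOD p ^ a] := by
    rw [← hot]
    exact pow_eq_pow_iff_modEq.1 h1
  have h3 : ex u ≡ ex v [MOD mp p G] :=
    (((mem_JJ (p := p) u).1 hu).of_dvd (mp_dvd_dd p G)).trans (((mem_JJ (p := p) v).1 hv).of_dvd (mp_dvd_dd p G)).symm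
  have h4 : ex u ≡ ex v [MOD Nat.card G] := by
    have h5 : p ^ a = p ^ (Nat.card G).factorization p := by
      rw [← ha]
      exact P.card_eq_multiplicity
    have h6 : Nat.card G = p ^ a * mp p G := by
      rw [h5]
      exact (Nat.ordProj_mul_ordCompl_eq_self (Nat.card G) p).symm
    rw [h6]
    refine (Nat.modEq_and_modEq_iff_modEq_mul ?_).1 ⟨h2, h3⟩
    exact Nat.Coprime.pow_left _ ((Nat.Prime.coprime_iff_not_dvd hp.out).2 (not_dvd_mp hp.out G))
  apply Units.ext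
  rw [← ex_cast, ← ex_cast]
  exact (ZMod.natCast_eq_natCast_iff _ _ _).2 h4

/-- **The key inequality.** -/
theorem sum_sq_le (hd : p ∣ Nat.card G) (P : Sylow p G) (hs : centralizer ((P : Subgroup G) : Set G) = (P : Subgroup G))
    {t : G} (ht : zpowers t = (P : Subgroup G)) (S : Finset (IrrCharacter G)) (hS : ∀ χ ∈ S, Alm p (χ : G → ℂ)) :
    ∑ χ ∈ S, ‖(χ : G → ℂ) t‖ ^ 2 ≤ p := by
  classical
  have hfin : Finite (IrrCharacter G) := finite_irr
  let : Fintype (IrrCharacter G) := Fintype.ofFinite _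
  let : Fintype G := Fintype.ofFinite G
  have : NeZero (Nat.card G) := ⟨(Nat.card_pos (α := G)).ne'⟩
  let : Fintype (JJ p G) := Fintype.ofFinite _
  let w : IrrCharacter G → ℂ := fun χ => ∑ u : JJ p G, (χ : G → ℂ) (t ^ ex u.1)
  have hcen : ∀ u : (ZMod (Nat.card G))ˣ, Nat.card (centralizer ({t ^ ex u} : Set G)) = Nat.card (P : Subgroup G) := by
    intro u
    rw [← Subgroup.centralizer_closure, ← zpowers_eq_closure, zpowers_pow_ex, ht, hs]
  have h1 : ∑ χ : IrrCharacter G, w χ * conj (w χ) = ((Nat.card (JJ p G) * Nat.card (P : Subgroup G) : ℕ) : ℂ) := by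
    calc ∑ χ : IrrCharacter G, w χ * conj (w χ)
        = ∑ χ : IrrCharacter G, ∑ u : JJ p G, ∑ v : JJ p G, (χ : G → ℂ) (t ^ ex u.1) * conj ((χ : G → ℂ) (t ^ ex v.1)) := by
          refine Finset.sum_congr rfl fun χ _ => ?_
          change (∑ u : JJ p G, (χ : G → ℂ) (t ^ ex u.1)) * conj (∑ u : JJ p G, (χ : G → ℂ) (t ^ ex u.1)) = _
          rw [map_sum, Finset.sum_mul_sum]
      _ = ∑ u : JJ p G, ∑ v : JJ p G, ∑ χ : IrrCharacter G, (χ : G → ℂ) (t ^ ex u.1) * conj ((χ : G → ℂ) (t ^ ex v.1)) := by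
          rw [Finset.sum_comm]
          exact Finset.sum_congr rfl fun u _ => Finset.sum_comm
      _ = ∑ u : JJ p G, ∑ v : JJ p G, if u = v then ((Nat.card (P : Subgroup G) : ℕ) : ℂ) else 0 := by
          refine Finset.sum_congr rfl fun u _ => Finset.sum_congr rfl fun v _ => ?_
          rw [S0145.sum_irr_mul_conj]
          by_cases huv : u = v
          · subst huv
            rw [if_pos (IsConj.refl _), if_pos rfl, hcen]
          · rw [if_neg fun h => huv (Subtype.ext (eq_of_isConj hd P ht u.2 v.2 h)), if_neg huv]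
      _ = _ := by
          simp only [Finset.sum_ite_eq, Finset.mem_univ, if_true, Finset.sum_const, Finset.card_univ, nsmul_eq_mul,
            Nat.card_eq_fintype_card (α := JJ p G)]
          push_cast
          ring
  have h2 : ∀ χ : IrrCharacter G, w χ * conj (w χ) = ((‖w χ‖ ^ 2 : ℝ) : ℂ) := fun χ => by
    rw [Complex.mul_conj, Complex.normSq_eq_norm_sq]
  rw [Finset.sum_congr rfl fun χ _ => h2 χ, ← Complex.ofReal_sum] at h1
  have h3 : ∑ χ : IrrCharacter G, ‖w χ‖ ^ 2 = ((Nat.card (JJ p G) * Nat.card (P : Subgroup G) : ℕ) : ℝ) := by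
    exact_mod_cast h1
  have h4 : ∀ χ ∈ S, ‖w χ‖ ^ 2 = (Nat.card (JJ p G) : ℝ) ^ 2 * ‖(χ : G → ℂ) t‖ ^ 2 := by
    intro χ hχ
    have h5 : w χ = (Nat.card (JJ p G) : ℂ) * (χ : G → ℂ) t := by
      change (∑ u : JJ p G, (χ : G → ℂ) (t ^ ex u.1)) = _
      rw [Finset.sum_congr rfl fun u _ => (alm_iff_fun (isIrr_isCharacter χ.2)).1 (hS χ hχ) u.1 u.2 t]
      rw [Finset.sum_const, Finset.card_univ, nsmul_eq_mul, Nat.card_eq_fintype_card (α := JJ p G)]
    rw [h5, norm_mul, mul_pow, Complex.norm_natCast]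
  have h5 : (Nat.card (JJ p G) : ℝ) ^ 2 * ∑ χ ∈ S, ‖(χ : G → ℂ) t‖ ^ 2 ≤
      ((Nat.card (JJ p G) * Nat.card (P : Subgroup G) : ℕ) : ℝ) := by
    rw [Finset.mul_sum, ← Finset.sum_congr rfl h4, ← h3]
    exact Finset.sum_le_sum_of_subset_of_nonneg (Finset.subset_univ _) fun _ _ _ => by positivity
  obtain ⟨a, ha1, ha⟩ := exists_pow_card P hd
  have h6 : (p : ℝ) ^ (a - 1) ≤ Nat.card (JJ p G) := by
    have h7 := le_card_JJ (p := p) (G := G) hd
    have h8 : p ^ a = p ^ (Nat.card G).factorization p := by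
      rw [← ha]
      exact P.card_eq_multiplicity
    have h9 := Nat.pow_right_injective hp.out.two_le h8
    rw [← h9] at h7
    exact_mod_cast h7
  have hJ : (0 : ℝ) < Nat.card (JJ p G) := by exact_mod_cast Nat.card_pos
  have h7 : (Nat.card (JJ p G) : ℝ) * ∑ χ ∈ S, ‖(χ : G → ℂ) t‖ ^ 2 ≤ (p : ℝ) ^ (a - 1) * p := by
    rw [← pow_succ, Nat.sub_add_cancel ha1]
    rw [ha] at h5
    push_cast at h5
    rw [sq, mul_assoc] at h5
    exact le_of_mul_le_mul_left h5 hJ
  have h8 : (p : ℝ) ^ (a - 1) * ∑ χ ∈ S, ‖(χ : G → ℂ) t‖ ^ 2 ≤ (p : ℝ) ^ (a - 1) * p :=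
    (mul_le_mul_of_nonneg_right h6 (Finset.sum_nonneg fun _ _ => by positivity)).trans h7
  exact le_of_mul_le_mul_left h8 (pow_pos (by exact_mod_cast hp.out.pos) _)

/-- **The upper bound.** -/
theorem xx_le (hd : p ∣ Nat.card G) (P : Sylow p G) (hc : IsCyclic (P : Subgroup G))
    (hs : centralizer ((P : Subgroup G) : Set G) = (P : Subgroup G)) : xx p G ≤ p := by
  classical
  have hfin : Finite (IrrCharacter G) := finite_irr
  let : Fintype (IrrCharacter G) := Fintype.ofFinite _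
  let : Fintype G := Fintype.ofFinite G
  let S : Finset (IrrCharacter G) := Finset.univ.filter fun χ => ¬ p ∣ charDegree (χ : G → ℂ) ∧ Alm p (χ : G → ℂ)
  have hxx : xx p G = S.card := by
    unfold xx
    rw [Nat.card_eq_fintype_card, Fintype.card_subtype]
  let X : Finset G := Finset.univ.filter fun t => zpowers t = (P : Subgroup G)
  have hXmem : ∀ t, t ∈ X ↔ zpowers t = (P : Subgroup G) := fun t => by
    change t ∈ Finset.univ.filter _ ↔ _
    rw [Finset.mem_filter]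
    exact ⟨fun h => h.2, fun h => ⟨Finset.mem_univ _, h⟩⟩
  obtain ⟨⟨t₀, ht₀⟩, h0⟩ := hc.exists_generator
  have ht0 : t₀ ∈ X := by
    rw [hXmem]
    refine le_antisymm (by rw [zpowers_le]; exact ht₀) fun x hx => ?_
    obtain ⟨k, hk⟩ := mem_zpowers_iff.1 (h0 ⟨x, hx⟩)
    exact mem_zpowers_iff.2 ⟨k, congrArg Subtype.val hk⟩
  have hXpos : (0 : ℝ) < X.card := by exact_mod_cast Finset.card_pos.2 ⟨_, ht0⟩
  have hXclosed : ∀ t ∈ X, ∀ m : ℕ, m.Coprime (Nat.card G) → t ^ m ∈ X := by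
    intro t ht m hm
    rw [hXmem] at ht ⊢
    rw [← ht]
    refine le_antisymm (by rw [zpowers_le]; exact pow_mem (mem_zpowers t) _) ?_
    rw [zpowers_le]
    obtain ⟨j, hj⟩ := exists_pow_eq_self_of_coprime (x := t) (n := m)
      (Nat.Coprime.coprime_dvd_right (orderOf_dvd_natCard t) hm)
    have h1 : (t ^ m) ^ j ∈ zpowers (t ^ m) := pow_mem (mem_zpowers _) _
    rwa [hj] at h1
  have hlow : ∀ χ ∈ S, (X.card : ℝ) ≤ ∑ t ∈ X, ‖(χ : G → ℂ) t‖ ^ 2 := by
    intro χ hχ
    have hdeg : ¬ p ∣ charDegree (χ : G → ℂ) := (Finset.mem_filter.1 hχ).2.1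
    have h1 := Cfsg.Agent.OddOrderCharacters.PF13.SumBound.card_le_sum_sq (G := G)
      (Finset.univ : Finset Unit) (fun _ => (χ : G → ℂ)) (fun _ _ => OddOrderCharacters.VChar.gen_of_irr χ.2) X hXclosed
      (fun t ht => ⟨(), Finset.mem_univ _, ?_⟩)
    · simpa using h1
    · refine H867.KBound.apply_ne_zero (isIrr_isCharacter χ.2) (S0914.degree_spec χ).1 hdeg t ?_
      rw [hXmem] at ht
      obtain ⟨k, hk⟩ := IsPGroup.iff_card.1 P.2
      exact ⟨k, by rw [← hk, ← ht, Nat.card_zpowers]⟩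
  have h1 : (S.card : ℝ) * X.card ≤ p * X.card := by
    calc (S.card : ℝ) * X.card = ∑ χ ∈ S, (X.card : ℝ) := by rw [Finset.sum_const, nsmul_eq_mul]
      _ ≤ ∑ χ ∈ S, ∑ t ∈ X, ‖(χ : G → ℂ) t‖ ^ 2 := Finset.sum_le_sum hlow
      _ = ∑ t ∈ X, ∑ χ ∈ S, ‖(χ : G → ℂ) t‖ ^ 2 := Finset.sum_comm
      _ ≤ ∑ t ∈ X, (p : ℝ) := Finset.sum_le_sum fun t ht =>
          sum_sq_le hd P hs ((hXmem t).1 ht) S fun χ hχ => (Finset.mem_filter.1 hχ).2.2
      _ = p * X.card := by rw [Finset.sum_const, nsmul_eq_mul, mul_comm]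
  rw [hxx]
  have h2 := le_of_mul_le_mul_right h1 hXpos
  exact_mod_cast h2

/-- the structure gives `C_G(P) = P` -/
theorem self_of_struct (hd : p ∣ Nat.card G) (P : Sylow p G) (hc : IsCyclic (P : Subgroup G)) {s : ℕ}
    (hN : Nat.card (normalizer ((P : Subgroup G) : Set G)) = Nat.card (P : Subgroup G) * s) {C : Subgroup G}
    (hCN : C ≤ normalizer ((P : Subgroup G) : Set G)) (hCs : Nat.card C = s) (hCP : C ⊓ (P : Subgroup G) = ⊥)
    (hfix : ∀ h ∈ C, h ≠ 1 → ∀ x ∈ (P : Subgroup G), x ≠ 1 → h * x * h⁻¹ ≠ x) :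
    centralizer ((P : Subgroup G) : Set G) = (P : Subgroup G) := by
  refine le_antisymm ?_ (le_centralizer_of_cyclic hc)
  intro c hcC
  set N := normalizer ((P : Subgroup G) : Set G) with hNdef
  have hPN : (P : Subgroup G) ≤ N := le_normalizer
  have hcompl : IsComplement' ((P : Subgroup G).subgroupOf N) (C.subgroupOf N) := by
    refine isComplement'_of_card_mul_and_disjoint ?_ ?_
    · rw [Nat.card_congr (subgroupOfEquivOfLe hPN).toEquiv, Nat.card_congr (subgroupOfEquivOfLe hCN).toEquiv, hCs, ← hN]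
    · rw [disjoint_iff_inf_le]
      rintro x ⟨hx1, hx2⟩
      have h1 : (x : G) ∈ C ⊓ (P : Subgroup G) := ⟨mem_subgroupOf.1 hx2, mem_subgroupOf.1 hx1⟩
      rw [hCP, mem_bot] at h1
      exact mem_bot.2 (Subtype.ext h1)
  have hcN : c ∈ N := centralizer_le_normalizer _ hcC
  obtain ⟨⟨⟨x, hx⟩, ⟨h, hh⟩⟩, hxh⟩ := hcompl.2 ⟨c, hcN⟩
  have hxh' : (x : G) * (h : G) = c := congrArg Subtype.val hxh
  have hxP : (x : G) ∈ (P : Subgroup G) := mem_subgroupOf.1 hx
  have hhC : (h : G) ∈ C := mem_subgroupOf.1 hh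
  have hh' : (h : G) ∈ centralizer ((P : Subgroup G) : Set G) := by
    have h1 : (h : G) = (x : G)⁻¹ * c := by rw [← hxh']; group
    rw [h1]
    exact mul_mem (inv_mem (le_centralizer_of_cyclic hc hxP)) hcC
  have hh1 : (h : G) = 1 := by
    by_contra hne
    obtain ⟨a, ha1, ha⟩ := exists_pow_card P hd
    have hnt : Nontrivial (P : Subgroup G) := by
      rw [← Finite.one_lt_card_iff_nontrivial, ha]
      exact Nat.one_lt_pow (by omega) hp.out.one_lt
    obtain ⟨⟨y, hy⟩, hy1⟩ := exists_ne (1 : (P : Subgroup G))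
    refine hfix h hhC hne y hy (fun h1 => hy1 (Subtype.ext h1)) ?_
    rw [← mem_centralizer_iff.1 hh' y hy]
    group
  rw [hh1, mul_one] at hxh'
  rw [← hxh']
  exact hxP

/-- **S4791 for cyclic Sylow subgroups, the other direction.** -/
theorem eq_of_struct (hM : IsPModular p M) (hd : p ∣ Nat.card G) (P : Sylow p G) (hc : IsCyclic (P : Subgroup G)) {s : ℕ}
    (hs2 : s ^ 2 = p - 1)
    (hN : Nat.card (normalizer ((P : Subgroup G) : Set G)) = Nat.card (P : Subgroup G) * s) {C : Subgroup G}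
    (hCN : C ≤ normalizer ((P : Subgroup G) : Set G)) (hCs : Nat.card C = s) (hCP : C ⊓ (P : Subgroup G) = ⊥)
    (hfix : ∀ h ∈ C, h ≠ 1 → ∀ x ∈ (P : Subgroup G), x ≠ 1 → h * x * h⁻¹ ≠ x) :
    xx p G ^ 2 = 4 * (p - 1) := by
  have hs := self_of_struct hd P hc hN hCN hCs hCP hfix
  have hee : ee (P : Subgroup G) = s := by
    have h1 := card_normalizer_of_self P hs
    rw [hN] at h1
    exact (Nat.eq_of_mul_eq_mul_left Nat.card_pos h1).symm
  have hpC : IsPGroup p (centralizer ((P : Subgroup G) : Set G)) := by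
    rw [hs]
    exact P.2
  have h1 := xx_eq_x0 hM P hpC
  have hx : p - 1 = ee (P : Subgroup G) * s := by rw [hee, ← hs2, sq]
  have h2 := x0_modEq_cyclic hM P hc hd hx
  have h3 := le_x0_cyclic hM P hc hd hx
  have h4 := xx_le hd P hc hs
  rw [h1] at h4 ⊢
  rw [hee] at h2 h3
  have h5 : x0 p M G = s + s := by
    have h6 : 0 < s + s := by
      have := ee_pos (P : Subgroup G)
      omega
    by_contra hne
    have h7 : p ∣ x0 p M G - (s + s) := (Nat.modEq_iff_dvd' h3).1 h2.symm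
    have h8 := Nat.le_of_dvd (by omega) h7
    omega
  rw [h5, ← hs2]
  ring

/-- **S4791 for cyclic Sylow subgroups.** -/
theorem cyclic_iff (hM : IsPModular p M) (hd : p ∣ Nat.card G) (P : Sylow p G) (hc : IsCyclic (P : Subgroup G)) :
    4 * (p - 1) ≤ xx p G ^ 2 ∧
    (xx p G ^ 2 = 4 * (p - 1) ↔
      (IsCyclic P ∧ ∃ s : ℕ, s ^ 2 = p - 1 ∧
        Nat.card (Subgroup.normalizer ((P : Subgroup G) : Set G)) = Nat.card P * s ∧
        ∃ C : Subgroup G, C ≤ Subgroup.normalizer ((P : Subgroup G) : Set G) ∧ IsCyclic C ∧ Nat.card C = s ∧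
          C ⊓ (P : Subgroup G) = ⊥ ∧ ∀ h ∈ C, h ≠ 1 → ∀ x ∈ (P : Subgroup G), x ≠ 1 → h * x * h⁻¹ ≠ x)) := by
  refine ⟨(four_le_cyclic hM P hc hd).trans (Nat.pow_le_pow_left x0_le_xx 2), fun h => ⟨hc, struct_of_eq hM P hc hd h⟩, ?_⟩
  rintro ⟨-, s, hs, hN, C, hCN, -, hCs, hCP, hfix⟩
  exact eq_of_struct hM hd P hc hs hN hCN hCs hCP hfix

/-- the other direction of S4791, in general (the condition on the right contains that `P` is cyclic) -/
theorem eq_of_right (hM : IsPModular p M) (hd : p ∣ Nat.card G) (P : Sylow p G)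
    (h : IsCyclic P ∧ ∃ s : ℕ, s ^ 2 = p - 1 ∧
        Nat.card (Subgroup.normalizer ((P : Subgroup G) : Set G)) = Nat.card P * s ∧
        ∃ C : Subgroup G, C ≤ Subgroup.normalizer ((P : Subgroup G) : Set G) ∧ IsCyclic C ∧ Nat.card C = s ∧
          C ⊓ (P : Subgroup G) = ⊥ ∧ ∀ h ∈ C, h ≠ 1 → ∀ x ∈ (P : Subgroup G), x ≠ 1 → h * x * h⁻¹ ≠ x) :
    xx p G ^ 2 = 4 * (p - 1) :=
  ((cyclic_iff hM hd P h.1).2).2 h

end Cfsg.Agent.H674.XZ
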