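import Cfsg.Agent.H953.Dg.Cyc
import Cfsg.Agent.H508.XR.Defs2
import Cfsg.Agent.H277.ClsPsp

/-!
# S4791 + S4927, `PSp_2m(q)` : not cyclic Sylow subgroups (helper674)

`nc_psp` : `d = ord_p(q)`, `e = d / 2` or `d` ; the Sylow `p`-subgroups are not cyclic: `2 e ≤ m`.
-/

set_option autoImplicit false

open Cfsg

namespace Cfsg.Agent.H674.XZ.Sp

open Cfsg.Agent.H508.XR

universe u

/-- half the order (even) or the order (odd) of `q` modulo `p` -/
noncomputable def hv (p q : ℕ) : ℕ := if Even (orderOf (q : ZMod p)) then orderOf (q : ZMod p) / 2 else orderOf (q : ZMod p)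

theorem hv_even {p q : ℕ} (h : Even (orderOf (q : ZMod p))) : orderOf (q : ZMod p) = 2 * hv p q := by
  unfold hv
  rw [if_pos h]
  obtain ⟨k, hk⟩ := h
  omega

theorem hv_odd {p q : ℕ} (h : ¬ Even (orderOf (q : ZMod p))) : orderOf (q : ZMod p) = hv p q := by
  unfold hv
  rw [if_neg h]

section

variable {p : ℕ} [hp : Fact p.Prime]

theorem orderOf_pos' {q : ℕ} (hq : ¬ p ∣ q) : 0 < orderOf (q : ZMod p) := by
  have h1 : (q : ZMod p) ≠ 0 := fun h => hq ((ZMod.natCast_eq_zero_iff _ _).1 h)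
  have h2 : IsUnit (q : ZMod p) := isUnit_iff_ne_zero.2 h1
  obtain ⟨u, hu⟩ := h2
  rw [← hu, orderOf_units]
  exact orderOf_pos u

theorem hv_pos {q : ℕ} (hq : ¬ p ∣ q) : 0 < hv p q := by
  have h1 := orderOf_pos' hq
  by_cases h : Even (orderOf (q : ZMod p))
  · have := hv_even h
    omega
  · rw [← hv_odd h]
    exact h1

/-- `2 e ∣ p - 1` -/
theorem hv_dvd (hp2 : p ≠ 2) {q : ℕ} (hq : ¬ p ∣ q) : 2 * hv p q ∣ p - 1 := by
  have h1 : (q : ZMod p) ≠ 0 := fun h => hq ((ZMod.natCast_eq_zero_iff _ _).1 h)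
  have h2 : orderOf (q : ZMod p) ∣ p - 1 := orderOf_dvd_of_pow_eq_one (ZMod.pow_card_sub_one_eq_one h1)
  by_cases h : Even (orderOf (q : ZMod p))
  · rw [← hv_even h]
    exact h2
  · rw [← hv_odd h]
    have h3 : Nat.Coprime 2 (orderOf (q : ZMod p)) := (Nat.coprime_two_left).2 (Nat.not_even_iff_odd.1 h)
    refine h3.mul_dvd_of_dvd_of_dvd ?_ h2
    obtain ⟨k, hk⟩ := hp.out.odd_of_ne_two hp2
    exact ⟨k, by omega⟩

theorem not_dvd_card {r : ℕ} [hr : Fact r.Prime] (hrp : r ≠ p) {F : Type} [Field F] [Fintype F] [CharP F r] :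
    ¬ p ∣ Fintype.card F := by
  obtain ⟨n, -, hn⟩ := FiniteField.card F r
  rw [hn]
  intro h
  exact hrp ((Nat.prime_dvd_prime_iff_eq hp.out hr.out).1 (hp.out.dvd_of_dvd_pow h)).symm

omit hp in
theorem isCyclic_of_not_dvd [Fact p.Prime] {S : Type u} [Group S] [Finite S] (h : ¬ p ∣ Nat.card S) (P : Sylow p S) :
    IsCyclic (P : Subgroup S) := by
  have h1 : Nat.card (P : Subgroup S) = 1 := by
    obtain ⟨n, hn⟩ := IsPGroup.iff_card.1 P.2
    rcases Nat.eq_zero_or_pos n with rfl | h2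
    · rw [hn, pow_zero]
    · exact absurd ((dvd_pow_self p h2.ne').trans (hn ▸ Subgroup.card_subgroup_dvd_card (P : Subgroup S))) h
  have h2 : Subsingleton (P : Subgroup S) := (Nat.card_eq_one_iff_unique.1 h1).1
  infer_instance

/-- noncyclic Sylow subgroups -/
theorem nc_psp {r : ℕ} [hr : Fact r.Prime] (hrp : r ≠ p) {F : Type} [Field F] [Fintype F] [CharP F r] {m : ℕ}
    (hm : 2 ≤ m) {S : Type u} [Group S] [Finite S] (e : S ≃* PSp m F) (hP : NC p S) :
    p ∣ Nat.card S ∧ 2 * hv p (Fintype.card F) ≤ m := by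
  have hfin : Finite (PSp m F) := Finite.of_equiv _ e.toEquiv
  set q := Fintype.card F with hq
  have hpq : ¬ p ∣ q := not_dvd_card hrp
  obtain ⟨P⟩ : Nonempty (Sylow p S) := inferInstance
  have hpS : p ∣ Nat.card S := by
    by_contra h
    exact hP P (isCyclic_of_not_dvd h P)
  refine ⟨hpS, ?_⟩
  by_contra hlt
  have hpos := hv_pos hpq
  -- the order is not too large
  have h1 : ∃ i, i < m ∧ orderOf (q : ZMod p) ∣ 2 * (i + 1) := by
    have h2 := H277.ClsPsp.card_psp hq.symm (m := m) (by omega)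
    rw [← Nat.card_congr e.toEquiv] at h2
    have h3 : p ∣ q ^ (m ^ 2) * ∏ i ∈ Finset.range m, (q ^ (2 * (i + 1)) - 1) := by
      rw [← h2]
      exact hpS.mul_left _
    rcases hp.out.dvd_mul.1 h3 with h4 | h4
    · exact absurd (hp.out.dvd_of_dvd_pow h4) hpq
    · obtain ⟨i, hi, h5⟩ := (Prime.dvd_finsetProd_iff hp.out.prime _).1 h4
      refine ⟨i, Finset.mem_range.1 hi, orderOf_dvd_of_pow_eq_one ?_⟩
      have h6 : 1 ≤ q ^ (2 * (i + 1)) := Nat.one_le_pow _ _ Fintype.card_pos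
      have h7 := (ZMod.natCast_eq_zero_iff _ _).2 h5
      rw [Nat.cast_sub h6, Nat.cast_pow, Nat.cast_one, sub_eq_zero] at h7
      exact h7
  obtain ⟨i, hi, h2⟩ := h1
  have hB : H851.Dg.BigU (.psp m q) p := by
    refine ⟨hp.out, ?_⟩
    by_cases h : Even (orderOf (q : ZMod p))
    · left
      have h3 := hv_even h
      refine ⟨h, by omega, ?_⟩
      have := Nat.le_of_dvd (by omega) h2
      omega
    · right
      have h3 := hv_odd h
      have h4 : Nat.Coprime (orderOf (q : ZMod p)) 2 := (Nat.coprime_two_left).2 (Nat.not_even_iff_odd.1 h) |>.symm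
      have h5 := Nat.le_of_dvd (by omega) (h4.dvd_of_dvd_mul_left h2)
      exact ⟨Nat.not_even_iff_odd.1 h, by omega, by omega⟩
  have h3 := H953.Dg.cyc_psp hm hB
  have h4 := h3 ((P : Subgroup S).map (e : S →* PSp m F)) (P.2.map _)
  exact hP P (((P : Subgroup S).equivMapOfInjective (e : S →* PSp m F) e.injective).symm.isCyclic.1 h4)

end

end Cfsg.Agent.H674.XZ.Sp
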