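import Cfsg.Agent.H674.XZ.AsmB
import Cfsg.Agent.H674.XZ.PSpN
import Cfsg.Agent.H742.PanU
import Cfsg.Agent.H832.AO3.Out

/-!
# S4791 + S4927, `PSp_2m(q)` : the row, from the linear primes and the forms (helper674)
-/

set_option autoImplicit false
set_option linter.unusedSectionVars false

open Cfsg Subgroup

namespace Cfsg.Agent.H674.XZ.Sp

open CoxeterSystem Cfsg.Agent.ChevalleyStructure.CoxeterGeom Cfsg.Agent.Tits.Roots
  Cfsg.Agent.Nodes.Reps Cfsg.Agent.Nodes.BNOf Cfsg.Agent.Nodes.StabComb Cfsg.Agent.Nodes.Comb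
  Cfsg.Agent.Nodes.Bruhat Cfsg.Agent.Nodes.OppDec Cfsg.Agent.Nodes.LeviDec Cfsg.Agent.Nodes
  Cfsg.Agent.H796.BR Cfsg.Agent.H967.XZ Cfsg.Agent.H674.XZ Cfsg.Agent.H508.XR Cfsg.Agent.H508.KB
  Cfsg.Agent.H668.XZ

universe u

/-- **linear primes** (helper796): the good nodes -/
def LinB (p : ℕ) [Fact p.Prime] (M : Ideal AlgInt) (r : ℕ) (S : Type u) [Group S] [Finite S] (m y z : ℕ) : Prop :=
  ∀ {A : Fin m → Fin m → ℤ} (h : IsCartan (CoxeterMatrix.B m) A) (T : Subgroup S) (n : Fin m → S)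
    (X : (Fin m → ℤ) → Subgroup S), RGD (CoxeterMatrix.B m).toCoxeterSystem h r T n X →
    RGD.Sup X {x | IsRoot (CoxeterMatrix.B m).toCoxeterSystem h x} = ⊤ →
    (∀ s ∈ T, ∀ t ∈ T, s * t = t * s) → (∀ i, n i ∈ X (sr i) ⊔ X (-sr i)) →
    (∀ i : Fin m, (i : ℕ) + 1 < m → Nat.card (X (sr i)) = y) →
    (∀ i : Fin m, (i : ℕ) + 1 = m → Nat.card (X (sr i)) = z) →
    ∀ a, m % orderOf (y : ZMod p) ≤ a → a < m →
      tt p (m / orderOf (y : ZMod p)) ((a - m % orderOf (y : ZMod p)) / orderOf (y : ZMod p)) ≠ 0 →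
      GdC p M (CoxeterMatrix.B m).toCoxeterSystem h T X a

/-- **the row of `PSp_2m(q)`** -/
theorem row_psp_of {p : ℕ} [hp : Fact p.Prime] {M : Ideal AlgInt} (h11 : 11 ≤ p) (hM : IsPModular p M) {r : ℕ}
    [hr : Fact r.Prime] (hrp : r ≠ p) {F : Type} [Field F] [Fintype F] [CharP F r] {m : ℕ} (hm : 2 ≤ m)
    {S : Type u} [Group S] [Finite S] (e : S ≃* PSp m F) (hP : NC p S)
    (hlin : 2 * orderOf (Fintype.card F : ZMod p) ≤ m → Odd (orderOf (Fintype.card F : ZMod p)) →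
      LinB p M r S m (Fintype.card F) (Fintype.card F))
    (hfrm : 2 * hv p (Fintype.card F) ≤ m → m < p * hv p (Fintype.card F) → ∀ c, 2 ≤ c →
      2 * hv p (Fintype.card F) * c = p - 1 → FormsE p S (2 * hv p (Fintype.card F)) c) : Row0 p M S := by
  classical
  have hp2 : p ≠ 2 := by omega
  obtain ⟨hpS, h2⟩ := nc_psp hrp hm e hP
  set q := Fintype.card F with hq
  have hpq : ¬ p ∣ q := not_dvd_card hrp
  have hpos := hv_pos hpq
  have hab : AbOut p S := H832.AO3.abOut_of_outComm p ((H832.AO3.outComm_psp hm).congr e.symm)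
  have hout : ∀ α β : MulAut S, ∃ s : S, α * β * α⁻¹ * β⁻¹ = MulAut.conj s := by
    intro α β
    obtain ⟨s, hs⟩ := ((H832.AO3.outComm_psp hm).congr e.symm) α β
    exact ⟨s, MulEquiv.ext fun x => by rw [hs x, MulAut.conj_apply]⟩
  have hpan : H50.Her.HasPan r (CoxeterMatrix.B m) (fun _ => Nat.card F) S :=
    (H742.pan_psp (F := F) (m := m) (by omega)).of_equiv e.symm
  rw [Nat.card_eq_fintype_card, ← hq] at hpan
  obtain ⟨A, h, T, n, X, hW, R, hG1, hT, hn, hcard⟩ := hpan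
  have hG : GG (CoxeterMatrix.B m).toCoxeterSystem h T X = ⊤ := KFacts.RgdRigid.GG_eq_top hG1
  have hw : 2 ≤ m / hv p q := (Nat.le_div_iff_mul_le hpos).2 (by omega)
  have h5 : 5 ≤ p := by omega
  -- the good nodes
  have hgood : ∃ s : Finset ℕ, (∀ a ∈ s, a ≤ m ∧ GdC p M (CoxeterMatrix.B m).toCoxeterSystem h T X a) ∧
      2 * hv p q + 1 ≤ s.card ∧ (p ≤ m / hv p q → p + 1 ≤ s.card) := by
    by_cases hev : Even (orderOf (q : ZMod p))
    · refine exists_good_ell hpos hw fun a ha => ?_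
      obtain ⟨h6, h7, h8⟩ := H965.XZ.wit_sp (p := p) (m := m) (hv_even hev) hpos (by omega)
      exact gd_of_dvd R hG hM fun k hk => H965.XZ.dvd_index_B_all R hG (fun i _ => hcard i) (fun i _ => hcard i) h6 h7 h8
        (j := k) (ha.trans hk) (by simp)
    · have ho := hv_odd hev
      have h6 := Nat.div_add_mod m (hv p q)
      refine exists_good' (v := m % hv p q) (w := m / hv p q) h5 hpos (by omega) hw
        (gd_of_dvd R hG hM fun k hk => absurd k.2 (by omega)) fun a h7 h8 h9 => ?_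
      rw [← ho] at h7 h9
      exact hlin (by rw [ho]; omega) (Nat.not_even_iff_odd.1 hev) h T n X R hG1 hT hn (fun i _ => hcard i)
        (fun i _ => hcard i) a h7 h8 h9
  obtain ⟨s, hs, h6, h7⟩ := hgood
  refine driver_B h11 R hG1 hM hpS hab (Or.inl hout) hs ?_
  by_cases hwp : p ≤ m / hv p q
  · exact Or.inl (h7 hwp)
  · right; right
    obtain ⟨c, hc⟩ := hv_dvd hp2 hpq
    have h8 : m < p * hv p q := by
      by_contra hcon
      exact hwp ((Nat.le_div_iff_mul_le hpos).2 (by omega))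
    refine ⟨2 * hv p q, c, hc.symm, h6, fun h9 => by omega, ?_⟩
    rcases Nat.lt_or_ge c 2 with hc2 | hc2
    · exact Or.inl (by omega)
    · exact hfrm h2 h8 c hc2 hc.symm

end Cfsg.Agent.H674.XZ.Sp
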