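import Cfsg.Agent.H674.XZ.RowPSpB
import Cfsg.Agent.H674.XZ.PSpA
import Cfsg.Agent.H719.XZ.Trans
import Cfsg.Agent.H236.XZ.GdLin

/-!
# S4791 + S4927, `PSp_2m(q)` : the row from `LinData` on the model (helper674)
-/

set_option autoImplicit false
set_option linter.unusedSectionVars false

open Cfsg Subgroup

namespace Cfsg.Agent.H674.XZ.Sp

open CoxeterSystem Cfsg.Agent.ChevalleyStructure.CoxeterGeom Cfsg.Agent.Tits.Roots
  Cfsg.Agent.Nodes.Reps Cfsg.Agent.Nodes.BNOf Cfsg.Agent.Nodes.StabComb Cfsg.Agent.Nodes.Comb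
  Cfsg.Agent.Nodes.Bruhat Cfsg.Agent.Nodes.OppDec Cfsg.Agent.Nodes.LeviDec Cfsg.Agent.Nodes
  Cfsg.Agent.H796.BR Cfsg.Agent.H967.XZ Cfsg.Agent.H674.XZ Cfsg.Agent.H508.XR Cfsg.Agent.H508.KB
  Cfsg.Agent.H668.XZ

universe u

/-- **the row of `PSp_2m(q)`** from `LinData` on the model -/
theorem row_psp_of_linData {p : ℕ} [hp : Fact p.Prime] {M : Ideal AlgInt} (h11 : 11 ≤ p) (hM : IsPModular p M) {r : ℕ}
    [hr : Fact r.Prime] (hrp : r ≠ p) {F : Type} [Field F] [Fintype F] [CharP F r] {m : ℕ} (hm : 2 ≤ m)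
    {S : Type u} [Group S] [Finite S] (e : S ≃* PSp m F) (hP : NC p S)
    (hlin : ∀ d w, orderOf (Fintype.card F : ZMod p) = d → Odd d → 2 * d ≤ m → w = m / d →
      ∃ (P : Sylow p (PSp m F)) (P₀ : Subgroup (PSp m F)),
        H796.XZ.LinData (co m) (TypeC.isCartan m) (To m F) (Xo m F) p (H796.XZ.JA m d w) (H796.XZ.JT m d w) P P₀) :
    Row0 p M S := by
  classical
  have hp2 : p ≠ 2 := by omega
  have hfin : Finite (PSp m F) := Finite.of_equiv _ e.toEquiv
  obtain ⟨hpS, h2⟩ := nc_psp hrp hm e hP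
  set q := Fintype.card F with hq
  have hpq : ¬ p ∣ q := not_dvd_card hrp
  have hpos := hv_pos hpq
  have hab : AbOut p S := H832.AO3.abOut_of_outComm p ((H832.AO3.outComm_psp hm).congr e.symm)
  have hout : ∀ α β : MulAut S, ∃ s : S, α * β * α⁻¹ * β⁻¹ = MulAut.conj s := by
    intro α β
    obtain ⟨s, hs⟩ := ((H832.AO3.outComm_psp hm).congr e.symm) α β
    exact ⟨s, MulEquiv.ext fun x => by rw [hs x, MulAut.conj_apply]⟩
  obtain ⟨n, R⟩ := exists_R m F (r := r)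
  have hG0 := hG m F (by omega)
  have hG1 : RGD.Sup (Xo m F) {x | IsRoot (co m) (TypeC.isCartan m) x} = ⊤ := WittModel.G1_eq_top _ (by omega) _
  have hw : 2 ≤ m / hv p q := (Nat.le_div_iff_mul_le hpos).2 (by omega)
  have h5 : 5 ≤ p := by omega
  have hqn : Nat.card F = q := Nat.card_eq_fintype_card
  -- the good nodes
  have hgood : ∃ s : Finset ℕ, (∀ a ∈ s, a ≤ m ∧ GdC p M (co m) (TypeC.isCartan m) (To m F) (Xo m F) a) ∧
      2 * hv p q + 1 ≤ s.card ∧ (p ≤ m / hv p q → p + 1 ≤ s.card) := by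
    by_cases hev : Even (orderOf (q : ZMod p))
    · refine exists_good_ell hpos hw fun a ha => ?_
      exact gd_ell m F (r := r) hM hpos (by omega) (by rw [hqn]; exact hv_even hev) ha
    · have ho := hv_odd hev
      have h6 := Nat.div_add_mod m (hv p q)
      obtain ⟨P, P₀, D⟩ := hlin (hv p q) (m / hv p q) ho (by rw [← ho]; exact Nat.not_even_iff_odd.1 hev) h2 rfl
      refine exists_good' (v := m % hv p q) (w := m / hv p q) h5 hpos (by omega) hw
        (gd_of_dvd R hG0 hM fun k hk => absurd k.2 (by omega)) fun a h7 h8 h9 => ?_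
      exact H236.XZ.gdC_of_linData R hG0 hrp.symm hM hpos (by omega) D h7 h8.le h9
  obtain ⟨s, hs, h6, h7⟩ := hgood
  refine driver_B h11 (H719.XZ.rgd_mapE e.symm R) (H719.XZ.sup_mapE e.symm hG1) hM hpS hab (Or.inl hout) (s := s)
    (fun a ha => ⟨(hs a ha).1, H719.XZ.gdC_map e.symm (hs a ha).2⟩) ?_
  by_cases hwp : p ≤ m / hv p q
  · exact Or.inl (h7 hwp)
  · right; right
    obtain ⟨c, hc⟩ := hv_dvd hp2 hpq
    have h8 : m < p * hv p q := by
      by_contra hcon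
      exact hwp ((Nat.le_div_iff_mul_le hpos).2 (by omega))
    refine ⟨2 * hv p q, c, hc.symm, h6, fun h9 => by omega, ?_⟩
    rcases Nat.lt_or_ge c 2 with hc2 | hc2
    · exact Or.inl (by omega)
    · exact forms_psp hrp hp2 e hP h8 hc2 hc.symm

end Cfsg.Agent.H674.XZ.Sp
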